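import Cfsg.Agent.Fischer.Fi24Index_m3
import Cfsg.Agent.Fischer.Fi23Simple
import Cfsg.Agent.Lib.PermNetPat
import Cfsg.Agent.FastGrp
import Cfsg.Agent.Prune
set_option linter.all false
prune_inst 0x7f00000000000000000000000000000000000000000000000000000000000000000000000000000000000000000000000000000000000000000000000000000000000000000000000000000000000000003fffffffffffffffffffffffffffbeffbdffffffff
open scoped Cfsg.Agent.FastGrp

/-!
# `Fi23` on its 31671 transpositions: letters, words, the transposition of a point, commuting points (helper48)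
-/

set_option autoImplicit false
set_option linter.constructorNameAsVariable false

namespace Cfsg.Agent.LThreeFi23

open Subgroup Cfsg Cfsg.Agent.Lib.PermNet Cfsg.Agent.Lib.PermNetFix Cfsg.Agent.Fischer.Fi23Nets
  Cfsg.Agent.Fischer.Fi23Rel Cfsg.Agent.Fischer.Fi23Hom Cfsg.Agent.Fischer.Fi23Orb
  Cfsg.Agent.Fischer.Fi23OrbData Cfsg.Agent.Fischer.Fi23Z Cfsg.Agent.Fischer.Abstract
open Cfsg.Spor (Fi23)
open Cfsg.Spor.Fi23 (Gen)

instance finG : Finite Fi23 := Fischer.Fi23Simple.instFiniteFi23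

theorem card_G : Nat.card Fi23 = 4089470473293004800 := Fischer.Fi23Simple.card_Fi23

theorem hle : Nat.card Fi23 ≤ 4089470473293004800 := card_G.le

theorem rho_inj : Function.Injective rho := Fischer.Fi23Simple.rho_injective

/-! ### Letters and words -/

/-- the generators and the transposition `z0` -/
inductive Lt : Type
  | a | b | c | d | e | f | g | h | i | j | z
  deriving DecidableEq

/-- the group element of a letter -/
def el : Lt → Fi23
  | .a => gen .a
  | .b => gen .b
  | .c => gen .c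
  | .d => gen .d
  | .e => gen .e
  | .f => gen .f
  | .g => gen .g
  | .h => gen .h
  | .i => gen .i
  | .j => gen .j
  | .z => z0

/-- the network of a letter -/
noncomputable def nt (x : Lt) : Net :=
  Lt.rec (motive := fun _ => Net) na nb nc nd ne nf ng nh ni nj nz x

theorem nt_ok (x : Lt) : (nt x).ok (2 ^ 15) = true := by
  cases x
  · exact ok_a
  · exact ok_b
  · exact ok_c
  · exact ok_d
  · exact ok_e
  · exact ok_f
  · exact ok_g
  · exact ok_h
  · exact ok_i
  · exact ok_j
  · exact ok_z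

theorem rho_el (x : Lt) : rho (el x) = (nt x).perm := by
  cases x
  · exact rho_gen _
  · exact rho_gen _
  · exact rho_gen _
  · exact rho_gen _
  · exact rho_gen _
  · exact rho_gen _
  · exact rho_gen _
  · exact rho_gen _
  · exact rho_gen _
  · exact rho_gen _
  · exact rho_z0

theorem el_sq (x : Lt) : el x * el x = 1 := by
  cases x
  · exact Fischer.Fi23Final.gen_sq _
  · exact Fischer.Fi23Final.gen_sq _
  · exact Fischer.Fi23Final.gen_sq _
  · exact Fischer.Fi23Final.gen_sq _
  · exact Fischer.Fi23Final.gen_sq _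
  · exact Fischer.Fi23Final.gen_sq _
  · exact Fischer.Fi23Final.gen_sq _
  · exact Fischer.Fi23Final.gen_sq _
  · exact Fischer.Fi23Final.gen_sq _
  · exact Fischer.Fi23Final.gen_sq _
  · exact Fischer.Fi23Class.z0_sq hle

theorem el_inv (x : Lt) : (el x)⁻¹ = el x := inv_eq_of_mul_eq_one_left (el_sq x)

/-- the group element of a word -/
def elw (l : List Lt) : Fi23 := (l.map el).prod

/-- the network word of a word -/
noncomputable def ntw (l : List Lt) : List Net :=
  List.rec (motive := fun _ => List Net) [] (fun x _ ih => nt x :: ih) l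

theorem ntw_nil : ntw [] = [] := rfl

theorem ntw_cons (x : Lt) (l : List Lt) : ntw (x :: l) = nt x :: ntw l := rfl

theorem ntw_ok (l : List Lt) : WOk (2 ^ 15) (ntw l) := by
  induction l with
  | nil => exact WOk.nil _
  | cons x l ih => exact WOk.cons (nt_ok x) ih

theorem elw_nil : elw [] = 1 := rfl

theorem elw_cons (x : Lt) (l : List Lt) : elw (x :: l) = el x * elw l := by
  unfold elw; rw [List.map_cons, List.prod_cons]

theorem elw_append (l l' : List Lt) : elw (l ++ l') = elw l * elw l' := by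
  unfold elw; rw [List.map_append, List.prod_append]

theorem elw_reverse (l : List Lt) : elw l.reverse = (elw l)⁻¹ := by
  induction l with
  | nil => simp [elw_nil]
  | cons x l ih =>
    rw [List.reverse_cons, elw_append, ih, elw_cons, elw_cons, elw_nil, mul_one, mul_inv_rev, el_inv]

theorem rho_elw (l : List Lt) : rho (elw l) = wperm (ntw l) := by
  induction l with
  | nil => rw [elw_nil, map_one, ntw_nil, wperm_nil]
  | cons x l ih => rw [elw_cons, map_mul, rho_el, ih, ntw_cons, wperm_cons]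

theorem elw_eq_of_checkEq {l l' : List Lt} (h : checkEq 15 (ntw l) (ntw l') = true) : elw l = elw l' := by
  apply rho_inj
  rw [rho_elw, rho_elw]
  exact wperm_eq_of_checkEq (ntw_ok l) (ntw_ok l') h

/-- the image of a point under a word, for the kernel -/
noncomputable def ptw (l : List Lt) (p : ℕ) : ℕ := ptWord (ntw l) p

theorem ptw_eq (l : List Lt) (p : ℕ) : ptw l p = rho (elw l) p := by
  unfold ptw
  rw [ptWord_eq (ntw_ok l), rho_elw]

/-! ### Points -/

theorem stab_facts : (∀ g, rho g 0 = 0 ↔ g ∈ Fischer.Fi23Orb.H) ∧ (∀ g, rho g 0 < 31671) := by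
  have h := index_and_suborbits (by rw [Fischer.Fi23Simple.index_H])
    (by rw [Fischer.Fi23Simple.index_H]; norm_num)
  exact ⟨h.2.1, h.2.2.1⟩

theorem exists_R : ∃ R : Rank3 Fi23 (Fi23 ⧸ Fischer.Fi23Class.K), R.t R.x0 = z0 ∧
    R.x0 = ((1 : Fi23) : Fi23 ⧸ Fischer.Fi23Class.K) := Fischer.Fi23Class.exists_rank3 hle

theorem smul_x0_iff {R : Rank3 Fi23 (Fi23 ⧸ Fischer.Fi23Class.K)}
    (h : R.x0 = ((1 : Fi23) : Fi23 ⧸ Fischer.Fi23Class.K)) (g g' : Fi23) :
    g • R.x0 = g' • R.x0 ↔ rho g 0 = rho g' 0 := by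
  have h1 : ∀ k : Fi23, k • R.x0 = (k : Fi23 ⧸ Fischer.Fi23Class.K) := by
    intro k
    rw [h]
    change ((k * 1 : Fi23) : Fi23 ⧸ Fischer.Fi23Class.K) = _
    rw [mul_one]
  rw [h1, h1, QuotientGroup.eq]
  have h2 : g⁻¹ * g' ∈ Fischer.Fi23Class.K ↔ rho (g⁻¹ * g') 0 = 0 := by
    rw [stab_facts.1, Fischer.Fi23Simple.H_eq_index]
  rw [h2, map_mul, map_inv, Equiv.Perm.mul_apply, Equiv.Perm.inv_eq_iff_eq]
  exact eq_comm

theorem fix_zero_iff (g : Fi23) : rho g 0 = 0 ↔ g * z0 = z0 * g := by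
  obtain ⟨R, hR, hR0⟩ := exists_R
  have h := R.smul_eq_iff_comm g R.x0
  rw [hR] at h
  rw [← h]
  have h1 := smul_x0_iff hR0 g 1
  rw [one_smul, map_one] at h1
  rw [h1]
  rfl

/-- the transposition of a point -/
noncomputable def T (p : ℕ) : Fi23 :=
  open Classical in if h : ∃ g, rho g 0 = p then h.choose * z0 * h.choose⁻¹ else 1

theorem T_eq {g : Fi23} {p : ℕ} (h : rho g 0 = p) : T p = g * z0 * g⁻¹ := by
  have h1 : ∃ g, rho g 0 = p := ⟨g, h⟩
  unfold T
  rw [dif_pos h1]
  set k := h1.choose with hk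
  have h2 : rho k 0 = p := h1.choose_spec
  have h3 : rho (g⁻¹ * k) 0 = 0 := by
    rw [map_mul, Equiv.Perm.mul_apply, h2, map_inv, Equiv.Perm.inv_eq_iff_eq, h]
  have h4 := (fix_zero_iff _).1 h3
  calc k * z0 * k⁻¹ = g * (g⁻¹ * k * z0) * k⁻¹ := by group
    _ = g * (z0 * (g⁻¹ * k)) * k⁻¹ := by rw [h4]
    _ = g * z0 * g⁻¹ := by group

theorem exists_rep {p : ℕ} (hp : p < 31671) : ∃ g, rho g 0 = p := trans p hp

theorem act_lt (g : Fi23) {p : ℕ} (hp : p < 31671) : rho g p < 31671 := by
  obtain ⟨k, rfl⟩ := exists_rep hp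
  rw [← Equiv.Perm.mul_apply, ← map_mul]
  exact stab_facts.2 _

theorem T_zero : T 0 = z0 := by
  rw [T_eq (g := 1) (by rw [map_one]; rfl)]
  group

theorem T_act (g : Fi23) {p : ℕ} (hp : p < 31671) : T (rho g p) = g * T p * g⁻¹ := by
  obtain ⟨k, rfl⟩ := exists_rep hp
  rw [T_eq (g := g * k) (by rw [map_mul]; rfl), T_eq (g := k) rfl]
  group

theorem fix_iff (w : Fi23) {p : ℕ} (hp : p < 31671) : rho w p = p ↔ w * T p = T p * w := by
  obtain ⟨g, rfl⟩ := exists_rep hp
  have h1 : rho w (rho g 0) = rho g 0 ↔ rho (g⁻¹ * w * g) 0 = 0 := by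
    rw [map_mul, map_mul, map_inv, Equiv.Perm.mul_apply, Equiv.Perm.mul_apply, Equiv.Perm.inv_eq_iff_eq]
  rw [h1, fix_zero_iff, T_eq (g := g) rfl]
  constructor
  · intro h
    calc w * (g * z0 * g⁻¹) = g * (g⁻¹ * w * g * z0) * g⁻¹ := by group
      _ = g * (z0 * (g⁻¹ * w * g)) * g⁻¹ := by rw [h]
      _ = g * z0 * g⁻¹ * w := by group
  · intro h
    calc g⁻¹ * w * g * z0 = g⁻¹ * (w * (g * z0 * g⁻¹)) * g := by group
      _ = g⁻¹ * (g * z0 * g⁻¹ * w) * g := by rw [h]
      _ = z0 * (g⁻¹ * w * g) := by group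

theorem T_inj {p q : ℕ} (hp : p < 31671) (hq : q < 31671) (h : T p = T q) : p = q := by
  obtain ⟨g, rfl⟩ := exists_rep hp
  obtain ⟨k, rfl⟩ := exists_rep hq
  rw [T_eq (g := g) rfl, T_eq (g := k) rfl] at h
  have h1 : rho (k⁻¹ * g) 0 = 0 := by
    rw [fix_zero_iff]
    calc k⁻¹ * g * z0 = k⁻¹ * (g * z0 * g⁻¹) * g := by group
      _ = k⁻¹ * (k * z0 * k⁻¹) * g := by rw [h]
      _ = z0 * (k⁻¹ * g) := by group
  rw [map_mul, map_inv, Equiv.Perm.mul_apply, Equiv.Perm.inv_eq_iff_eq] at h1
  exact h1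

theorem T_sq {p : ℕ} (hp : p < 31671) : T p * T p = 1 := by
  obtain ⟨g, rfl⟩ := exists_rep hp
  rw [T_eq (g := g) rfl]
  have := el_sq .z
  change z0 * z0 = 1 at this
  calc g * z0 * g⁻¹ * (g * z0 * g⁻¹) = g * (z0 * z0) * g⁻¹ := by group
    _ = 1 := by rw [this]; group

theorem T_inv {p : ℕ} (hp : p < 31671) : (T p)⁻¹ = T p := inv_eq_of_mul_eq_one_left (T_sq hp)

/-- the points `p` and `q` commute -/
def Com (p q : ℕ) : Prop := rho (T p) q = q

theorem com_iff {p q : ℕ} (hq : q < 31671) : Com p q ↔ T p * T q = T q * T p := fix_iff _ hq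

theorem com_comm {p q : ℕ} (hp : p < 31671) (hq : q < 31671) : Com p q ↔ Com q p := by
  rw [com_iff hq, com_iff hp]
  exact eq_comm

theorem com_self {p : ℕ} (hp : p < 31671) : Com p p := (com_iff hp).2 rfl

theorem com_act (g : Fi23) {p q : ℕ} (hp : p < 31671) : Com (rho g p) (rho g q) ↔ Com p q := by
  unfold Com
  rw [T_act g hp, ← Equiv.Perm.mul_apply, ← map_mul, inv_mul_cancel_right, map_mul, Equiv.Perm.mul_apply]
  exact (rho g).injective.eq_iff

theorem com_fix (g : Fi23) {p q : ℕ} (hp : p < 31671) (h : rho g p = p) : Com p (rho g q) ↔ Com p q := by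
  have := com_act g (q := q) hp
  rwa [h] at this

/-- noncommuting points satisfy the braid relation -/
theorem braid {p q : ℕ} (hp : p < 31671) (hq : q < 31671) (h : ¬ Com p q) :
    T p * T q * T p = T q * T p * T q := by
  obtain ⟨R, hR, hR0⟩ := exists_R
  obtain ⟨g, rfl⟩ := exists_rep hp
  obtain ⟨k, rfl⟩ := exists_rep hq
  have h1 : ∀ x : Fi23, R.t (x • R.x0) = T (rho x 0) := by
    intro x
    rw [R.map_smul, hR, T_eq (g := x) rfl]
  rw [com_iff hq, ← h1, ← h1] at h
  rw [← h1, ← h1]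
  exact (R.com_or_braid _ _).resolve_left h

/-- `G` is transitive on the ordered pairs of noncommuting points -/
theorem pair_trans {p q p' q' : ℕ} (hp : p < 31671) (hq : q < 31671) (hp' : p' < 31671) (hq' : q' < 31671)
    (h : ¬ Com p q) (h' : ¬ Com p' q') : ∃ g : Fi23, rho g p = p' ∧ rho g q = q' := by
  obtain ⟨R, hR, hR0⟩ := exists_R
  have h1 : ∀ x : Fi23, R.t (x • R.x0) = T (rho x 0) := by
    intro x
    rw [R.map_smul, hR, T_eq (g := x) rfl]
  -- every noncommuting pair is conjugate to `(x0, b)`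
  obtain ⟨u, hu⟩ := R.trans R.b
  have key : ∀ p q : ℕ, p < 31671 → q < 31671 → ¬ Com p q → ∃ g : Fi23, rho g 0 = p ∧ rho g (rho u 0) = q := by
    intro p q hp hq h
    obtain ⟨g, rfl⟩ := exists_rep hp
    obtain ⟨k, rfl⟩ := exists_rep hq
    have h2 : ¬ R.Com R.x0 ((g⁻¹ * k) • R.x0) := by
      intro h3
      apply h
      rw [com_iff hq, ← h1, ← h1]
      have h4 := (R.com_smul g R.x0 ((g⁻¹ * k) • R.x0)).2 h3
      rw [smul_smul, mul_inv_cancel_left] at h4
      exact h4
    obtain ⟨m, hm, hm'⟩ := R.not_com_x0_iff.1 h2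
    refine ⟨g * m, ?_, ?_⟩
    · apply (smul_x0_iff hR0 _ _).1
      rw [mul_smul, hm]
    · rw [← Equiv.Perm.mul_apply, ← map_mul]
      apply (smul_x0_iff hR0 _ _).1
      rw [mul_smul, hu, mul_smul, hm', smul_smul, mul_inv_cancel_left]
  obtain ⟨g, hg, hg'⟩ := key p q hp hq h
  obtain ⟨k, hk, hk'⟩ := key p' q' hp' hq' h'
  refine ⟨k * g⁻¹, ?_, ?_⟩
  · rw [map_mul, Equiv.Perm.mul_apply, map_inv, (Equiv.Perm.inv_eq_iff_eq).2 hg.symm, hk]
  · rw [map_mul, Equiv.Perm.mul_apply, map_inv, (Equiv.Perm.inv_eq_iff_eq).2 hg'.symm, hk']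

/-! ### The points of the letters -/

/-- the point of a letter -/
def pt : Lt → ℕ
  | .a => 11589
  | .b => 8004
  | .c => 8003
  | .d => 8000
  | .e => 8001
  | .f => 8002
  | .g => 8005
  | .h => 7999
  | .i => 8007
  | .j => 8006
  | .z => 0

theorem pt_lt (x : Lt) : pt x < 31671 := by cases x <;> decide

theorem p_j : Nat.beq (ptw [.z, .j] 0) 8006 = true := by decide +kernel
theorem p_g : Nat.beq (ptw [.j, .g] 8006) 8005 = true := by decide +kernel
theorem p_f : Nat.beq (ptw [.g, .f] 8005) 8002 = true := by decide +kernel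
theorem p_e : Nat.beq (ptw [.f, .e] 8002) 8001 = true := by decide +kernel
theorem p_d : Nat.beq (ptw [.e, .d] 8001) 8000 = true := by decide +kernel
theorem p_c : Nat.beq (ptw [.d, .c] 8000) 8003 = true := by decide +kernel
theorem p_b : Nat.beq (ptw [.c, .b] 8003) 8004 = true := by decide +kernel
theorem p_a : Nat.beq (ptw [.b, .a] 8004) 11589 = true := by decide +kernel
theorem p_h : Nat.beq (ptw [.d, .h] 8000) 7999 = true := by decide +kernel
theorem p_i : Nat.beq (ptw [.h, .i] 7999) 8007 = true := by decide +kernel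

theorem T_of_braid {x y : Lt} {p q : ℕ} (hp : p < 31671) (h : T p = el x)
    (hb : el x * el y * el x = el y * el x * el y) (hpt : Nat.beq (ptw [x, y] p) q = true) : T q = el y := by
  have h1 := Nat.eq_of_beq_eq_true hpt
  rw [ptw_eq] at h1
  rw [← h1, T_act _ hp, h, elw_cons, elw_cons, elw_nil, mul_one, mul_inv_rev, el_inv, el_inv]
  calc el x * el y * el x * (el y * el x) = el y * el x * el y * (el y * el x) := by rw [hb]
    _ = el y * el x * (el y * el y) * el x := by group
    _ = el y * (el x * el x) := by rw [el_sq, mul_one, mul_assoc]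
    _ = el y := by rw [el_sq, mul_one]

theorem braid_of_three {x y : Fi23} (hx : x * x = 1) (hy : y * y = 1) (h : (x * y) ^ 3 = 1) :
    x * y * x = y * x * y := by
  have ex : x⁻¹ = x := inv_eq_of_mul_eq_one_left hx
  have ey : y⁻¹ = y := inv_eq_of_mul_eq_one_left hy
  have h1 : (x * y * x) * (y * x * y) = 1 := by
    rw [← h]
    simp only [pow_succ, pow_zero, one_mul, mul_assoc]
  have h2 := eq_inv_of_mul_eq_one_left h1
  rw [h2, mul_inv_rev, mul_inv_rev, ex, ey]
  group

theorem br (x y : Gen) (h : Cfsg.Spor.coxLabel Cfsg.Spor.Fi23.edges x y = 3) :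
    gen x * gen y * gen x = gen y * gen x * gen y := by
  have h1 := Fischer.Fi23Final.gen_rel x y
  rw [h] at h1
  exact braid_of_three (Fischer.Fi23Final.gen_sq x) (Fischer.Fi23Final.gen_sq y) h1

theorem T_pt (x : Lt) : T (pt x) = el x := by
  have hz : T (pt .z) = el .z := T_zero
  have hj : T (pt .j) = el .j := T_of_braid (pt_lt .z) hz (Fischer.Fi23Class.z0_braid hle) p_j
  have hg : T (pt .g) = el .g := T_of_braid (pt_lt .j) hj (br _ _ (by decide)) p_g
  have hf : T (pt .f) = el .f := T_of_braid (pt_lt .g) hg (br _ _ (by decide)) p_f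
  have he : T (pt .e) = el .e := T_of_braid (pt_lt .f) hf (br _ _ (by decide)) p_e
  have hd : T (pt .d) = el .d := T_of_braid (pt_lt .e) he (br _ _ (by decide)) p_d
  have hc : T (pt .c) = el .c := T_of_braid (pt_lt .d) hd (br _ _ (by decide)) p_c
  have hb : T (pt .b) = el .b := T_of_braid (pt_lt .c) hc (br _ _ (by decide)) p_b
  have ha : T (pt .a) = el .a := T_of_braid (pt_lt .b) hb (br _ _ (by decide)) p_a
  have hh : T (pt .h) = el .h := T_of_braid (pt_lt .d) hd (br _ _ (by decide)) p_h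
  have hi : T (pt .i) = el .i := T_of_braid (pt_lt .h) hh (br _ _ (by decide)) p_i
  cases x <;> assumption

theorem fix_pt_iff (w : Fi23) (x : Lt) : rho w (pt x) = pt x ↔ w * el x = el x * w := by
  rw [fix_iff w (pt_lt x), T_pt]

theorem com_pt_iff (x : Lt) (q : ℕ) : Com (pt x) q ↔ rho (el x) q = q := by
  unfold Com; rw [T_pt]

/-! ### The centre -/

theorem nsimple : IsSimpleGroup Fi23 := Fischer.Fi23Simple.isFi23.1

theorem eq_one_of_comm {w : Fi23} (h : ∀ x : Lt, w * el x = el x * w) : w = 1 := by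
  have := nsimple
  have hw : w ∈ center Fi23 := by
    rw [mem_center_iff]
    have h1 : (⊤ : Subgroup Fi23) ≤ centralizer ({w} : Set Fi23) := by
      rw [← show Subgroup.closure (Set.range gen) = ⊤ from Fischer.Fi23Final.gens_top, Subgroup.closure_le]
      rintro _ ⟨x, rfl⟩
      rw [SetLike.mem_coe, mem_centralizer_singleton_iff]
      have h2 : ∀ y : Lt, el y * w = w * el y := fun y => (h y).symm
      cases x
      · exact h2 .a
      · exact h2 .b
      · exact h2 .c
      · exact h2 .d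
      · exact h2 .e
      · exact h2 .f
      · exact h2 .g
      · exact h2 .j
      · exact h2 .h
      · exact h2 .i
    intro g
    exact mem_centralizer_singleton_iff.1 (h1 (mem_top g))
  rcases (inferInstance : (center Fi23).Normal).eq_bot_or_eq_top with h1 | h1
  · rw [h1, mem_bot] at hw
    exact hw
  · exfalso
    apply Fischer.Fi23Class.z0_ncomm
    have h2 : z0 ∈ center Fi23 := by rw [h1]; exact mem_top _
    exact (mem_center_iff.1 h2 _).symm

end Cfsg.Agent.LThreeFi23
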