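import Cfsg.Agent.H837.ThrChk
import Mathlib.GroupTheory.Sylow
import Mathlib.Tactic
import Cfsg.Agent.Lib.PermNetFast
import Cfsg.Agent.FastGrp
import Cfsg.Agent.Prune
set_option linter.all false
prune_inst 0x7f00000000000000000000000000000000000000000000000000000000000000000000000000000000000000000000000000000000000000000000000000000000000000000000000000000000000000003fffffffffffffffffffffffffffbeffbdffffffff
open scoped Cfsg.Agent.FastGrp

-- merged: Cfsg.Agent.LThreeFi23.Comm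
section

/-!
# Commuting words (helper48)
-/

set_option autoImplicit false
set_option linter.constructorNameAsVariable false

namespace Cfsg.Agent.LThreeFi23

open Subgroup Cfsg Cfsg.Agent.Lib.PermNet Cfsg.Agent.Fischer.Fi23Hom
open Cfsg.Spor (Fi23)

/-! ### Commuting letters -/

/-- the edges of the extended diagram -/
def adjL (x y : Lt) : Bool :=
  decide ((x, y) ∈ [(Lt.a, Lt.b), (.b, .a), (.b, .c), (.c, .b), (.c, .d), (.d, .c), (.d, .e), (.e, .d), (.d, .h),
    (.h, .d), (.e, .f), (.f, .e), (.f, .g), (.g, .f), (.g, .j), (.j, .g), (.h, .i), (.i, .h), (.z, .j), (.j, .z)])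

/-- the generator of a letter (dummy for `z`) -/
def tg : Lt → Cfsg.Spor.Fi23.Gen
  | .a => .a
  | .b => .b
  | .c => .c
  | .d => .d
  | .e => .e
  | .f => .f
  | .g => .g
  | .h => .h
  | .i => .i
  | .j => .j
  | .z => .a

theorem el_tg (x : Lt) (hx : x ≠ .z) : el x = gen (tg x) := by
  cases x
  case z => exact absurd rfl hx
  all_goals rfl

/-- the letters other than `z` -/
def lts : List Lt := [.a, .b, .c, .d, .e, .f, .g, .h, .i, .j]

theorem adj_all : (lts.all fun x => lts.all fun y => adjL x y || decide (x = y) ||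
    decide (Cfsg.Spor.coxLabel Cfsg.Spor.Fi23.edges (tg x) (tg y) = 2)) = true := by decide +kernel

theorem mem_lts (x : Lt) (hx : x ≠ .z) : x ∈ lts := by
  cases x
  case z => exact absurd rfl hx
  all_goals decide

theorem lt_comm (x y : Lt) (h : adjL x y = false) : el x * el y = el y * el x := by
  by_cases hx : x = .z
  · subst hx
    apply z_comm_el
    rintro rfl
    exact absurd h (by decide)
  by_cases hy : y = .z
  · subst hy
    refine (z_comm_el _ ?_).symm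
    intro hj
    rw [hj] at h
    exact absurd h (by decide)
  rcases eq_or_ne x y with hxy | hxy
  · rw [hxy]
  have h1 := (List.all_eq_true.1 ((List.all_eq_true.1 adj_all) x (mem_lts x hx))) y (mem_lts y hy)
  rw [h] at h1
  simp only [Bool.false_or, Bool.or_eq_true, decide_eq_true_eq] at h1
  rw [el_tg x hx, el_tg y hy]
  rcases h1 with h1 | h1
  · exact absurd h1 hxy
  · exact Fischer.Fi23Class.gen_comm _ _ h1

theorem comm_words (l l' : List Lt) (h : (l.all fun x => l'.all fun y => !adjL x y) = true) :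
    elw l * elw l' = elw l' * elw l := by
  apply comm_elw
  intro y hy
  refine (comm_elw (g := el y) fun x hx => (lt_comm x y ?_).symm).symm
  have h1 := (List.all_eq_true.1 ((List.all_eq_true.1 h) x hx)) y hy
  simpa using h1

end Cfsg.Agent.LThreeFi23

end

-- merged: Cfsg.Agent.LThreeFi23.PairU
section

/-!
# The elements `u1 = a b`, `u2 = h i` (helper48)
-/

set_option autoImplicit false
set_option linter.constructorNameAsVariable false

namespace Cfsg.Agent.LThreeFi23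

open Subgroup Cfsg Cfsg.Agent.Lib.PermNet Cfsg.Agent.Fischer.Fi23Hom
open Cfsg.Spor (Fi23)

/-! ### `u1 = a b` and `u2 = h i` -/

/-- `a b` -/
def u1 : Fi23 := el .a * el .b
/-- `h i` -/
def u2 : Fi23 := el .h * el .i

theorem u1_eq : elw [.a, .b] = u1 := by rw [elw_cons, elw_one]; rfl
theorem u2_eq : elw [.h, .i] = u2 := by rw [elw_cons, elw_one]; rfl

theorem ab_braid : el .a * el .b * el .a = el .b * el .a * el .b := br _ _ (by decide)
theorem hi_braid : el .h * el .i * el .h = el .i * el .h * el .i := br _ _ (by decide)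

theorem u1_pow : u1 ^ 3 = 1 := three_of_braid (el_sq _) (el_sq _) ab_braid
theorem u2_pow : u2 ^ 3 = 1 := three_of_braid (el_sq _) (el_sq _) hi_braid

theorem u1_inv : u1⁻¹ = el .b * el .a := by unfold u1; rw [mul_inv_rev, el_inv, el_inv]
theorem u2_inv : u2⁻¹ = el .i * el .h := by unfold u2; rw [mul_inv_rev, el_inv, el_inv]

theorem u1_u2 : u1 * u2 = u2 * u1 := by rw [← u1_eq, ← u2_eq]; exact comm_words _ _ (by decide +kernel)

theorem comm_of_el {w : Fi23} {x : Lt} {p : ℕ} (hp : pt x = p) (h : w * el x = el x * w) : rho w p = p := by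
  subst hp
  exact (fix_pt_iff w x).2 h

theorem fix_a {w : Fi23} (h : w * el .a = el .a * w) : rho w 11589 = 11589 := comm_of_el (x := .a) rfl h
theorem fix_b {w : Fi23} (h : w * el .b = el .b * w) : rho w 8004 = 8004 := comm_of_el (x := .b) rfl h
theorem fix_i {w : Fi23} (h : w * el .i = el .i * w) : rho w 8007 = 8007 := comm_of_el (x := .i) rfl h
theorem comm_a {w : Fi23} (h : rho w 11589 = 11589) : w * el .a = el .a * w := comm_el_of_fix (x := .a) rfl h
theorem comm_b {w : Fi23} (h : rho w 8004 = 8004) : w * el .b = el .b * w := comm_el_of_fix (x := .b) rfl h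
theorem comm_h {w : Fi23} (h : rho w 7999 = 7999) : w * el .h = el .h * w := comm_el_of_fix (x := .h) rfl h
theorem comm_i {w : Fi23} (h : rho w 8007 = 8007) : w * el .i = el .i * w := comm_el_of_fix (x := .i) rfl h

theorem comm_word_let (l : List Lt) (x : Lt) (h : (l.all fun y => !adjL y x) = true) : elw l * el x = el x * elw l := by
  rw [← elw_one]
  apply comm_words
  rw [← h]
  congr 1
  funext y
  simp

theorem u1_fix : rho u1 8007 = 8007 := by
  rw [← u1_eq]
  exact fix_i (comm_word_let _ _ (by decide +kernel))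

theorem u2_fix : rho u2 11589 = 11589 := by
  rw [← u2_eq]
  exact fix_a (comm_word_let _ _ (by decide +kernel))

theorem y5_fix8 : rho (elw y5) 8007 = 8007 := fix_i (comm_word_let _ _ (by decide +kernel))

theorem y5_fix1 : rho (elw y5) 11589 = 11589 := fix_a (comm_word_let _ _ (by decide +kernel))

theorem ncom_ab : ¬ Com 11589 8004 := ncom_pt (x := .a) rfl m_a
theorem ncom_hi : ¬ Com 7999 8007 := ncom_pt (x := .h) rfl m_h

theorem T_of_pt {x : Lt} {p : ℕ} (hp : pt x = p) : T p = el x := by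
  subst hp
  exact T_pt x

theorem T_a : T 11589 = el .a := T_of_pt rfl
theorem T_b : T 8004 = el .b := T_of_pt rfl
theorem T_h : T 7999 = el .h := T_of_pt rfl
theorem T_i : T 8007 = el .i := T_of_pt rfl

theorem T_ab : T 11589 * T 8004 = u1 := by rw [T_a, T_b]; rfl

theorem T_hi : T 7999 * T 8007 = u2 := by rw [T_h, T_i]; rfl

end Cfsg.Agent.LThreeFi23

end

-- merged: Cfsg.Agent.LThreeFi23.PairF
section

/-!
# Powers of `u1`, `u2` and the fixed points of `y5` (helper48)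
-/

set_option autoImplicit false
set_option linter.constructorNameAsVariable false

namespace Cfsg.Agent.LThreeFi23

open Subgroup Cfsg Cfsg.Agent.Lib.PermNet Cfsg.Agent.Fischer.Fi23Hom
open Cfsg.Spor (Fi23)

theorem no_common {y v : List Lt} (h : pchk [(y, false), (v, false)] [] = true) {p : ℕ} (hp : p < 31671)
    (h1 : rho (elw y) p = p) (h2 : rho (elw v) p = p) : False := by
  have h3 : p ∈ ([] : List ℕ) := by
    apply (pchk_mem h p).1
    refine ⟨hp, ?_⟩
    rw [pat_cons, pat_cons]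
    refine ⟨⟨fun h => absurd h1 h, fun h => absurd h Bool.false_ne_true⟩,
      ⟨fun h => absurd h2 h, fun h => absurd h Bool.false_ne_true⟩, fun c hc => absurd hc (by simp)⟩
  exact absurd h3 (by simp)

theorem w_abhi : elw [.a, .b, .h, .i] = u1 * u2 := by
  rw [← u1_eq, ← u2_eq, ← elw_append]
  rfl

theorem w_abih : elw [.a, .b, .i, .h] = u1 * u2⁻¹ := by
  rw [u2_inv, ← u1_eq, elw_cons, elw_cons, elw_cons, elw_one, elw_cons, elw_one]
  simp only [mul_assoc]

theorem nofixA {p : ℕ} (hp : p < 31671) (hy : rho (elw y5) p = p) (h : rho (u1 * u2) p = p) : False :=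
  no_common e_n5a hp hy (by rw [w_abhi]; exact h)

theorem nofixB {p : ℕ} (hp : p < 31671) (hy : rho (elw y5) p = p) (h : rho (u1 * u2⁻¹) p = p) : False :=
  no_common e_n5b hp hy (by rw [w_abih]; exact h)

theorem cases_three {x : Fi23} (hx : x ^ 3 = 1) (i : ℤ) : (i % 3 = 0 ∧ x ^ i = 1) ∨ (i % 3 ≠ 0 ∧ (x ^ i = x ∨ x ^ i = x⁻¹)) := by
  have h3 : x ^ (3 : ℤ) = 1 := by
    rw [show (3 : ℤ) = ((3 : ℕ) : ℤ) from rfl, zpow_natCast]
    exact hx
  have hk' : x ^ i = x ^ (i % 3) := by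
    conv_lhs => rw [← Int.emod_add_mul_ediv i 3, zpow_add, zpow_mul, h3, one_zpow, mul_one]
  have h4 : i % 3 = 0 ∨ i % 3 = 1 ∨ i % 3 = 2 := by omega
  rcases h4 with h4 | h4 | h4
  · left
    exact ⟨h4, by rw [hk', h4, zpow_zero]⟩
  · right
    refine ⟨by omega, Or.inl ?_⟩
    rw [hk', h4, zpow_one]
  · right
    refine ⟨by omega, Or.inr ?_⟩
    rw [hk', h4]
    have : x ^ (2 : ℤ) * x = 1 := by
      rw [← zpow_add_one]
      exact h3
    exact eq_inv_of_mul_eq_one_left this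

theorem fix_inv {w : Fi23} {p : ℕ} (h : rho w p = p) : rho w⁻¹ p = p := by
  rw [map_inv, Equiv.Perm.inv_eq_iff_eq, h]

theorem u_comm : Commute u1 u2 := u1_u2

/-- the products `u1^i u2^j`, `i j ≠ 0`, have no common fixed point with `y5` -/
theorem no_fix (i j : ℤ) {p : ℕ} (hp : p < 31671) (hy : rho (elw y5) p = p) (h : rho (u1 ^ i * u2 ^ j) p = p) :
    i % 3 = 0 ∨ j % 3 = 0 := by
  rcases cases_three u1_pow i with ⟨hi, hi'⟩ | ⟨hi, hi'⟩
  · exact Or.inl hi
  rcases cases_three u2_pow j with ⟨hj, hj'⟩ | ⟨hj, hj'⟩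
  · exact Or.inr hj
  exfalso
  rcases hi' with hi' | hi' <;> rcases hj' with hj' | hj' <;> rw [hi', hj'] at h
  · exact nofixA hp hy h
  · exact nofixB hp hy h
  · apply nofixB hp hy
    have h1 := fix_inv h
    rw [mul_inv_rev, inv_inv, ← (u_comm.inv_right).eq] at h1
    exact h1
  · apply nofixA hp hy
    have h1 := fix_inv h
    rw [mul_inv_rev, inv_inv, inv_inv, ← u_comm.eq] at h1
    exact h1

theorem ne_of_ncom {x y : Lt} {p q : ℕ} (hp : T p = el x) (hq : T q = el y) (hq' : q < 31671) (h : ¬ Com p q) :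
    el x * el y ≠ 1 := by
  intro h1
  rw [mul_eq_one_iff_eq_inv, el_inv] at h1
  apply h
  rw [com_iff hq', hp, hq, h1]

theorem u1_ne : u1 ≠ 1 := ne_of_ncom T_a T_b (by norm_num) ncom_ab

theorem u2_ne : u2 ≠ 1 := ne_of_ncom T_h T_i (by norm_num) ncom_hi

end Cfsg.Agent.LThreeFi23

end

-- merged: Cfsg.Agent.LThreeFi23.PrimesD
section

/-!
# 3-elements of `Fi23` commuting with elements of order 5 (helper48)
-/

set_option autoImplicit false
set_option linter.constructorNameAsVariable false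

namespace Cfsg.Agent.LThreeFi23

open Subgroup Cfsg Cfsg.Agent.Lib.PermNet Cfsg.Agent.Fischer.Fi23Hom
open Cfsg.Spor (Fi23)

theorem swap_lemma {G : Type*} [Group G] {w v v' : G} (hw : Tel w) (hv : v ≠ v') (hv' : v ≠ v'⁻¹)
    (h1 : (w * v * w⁻¹ = v ∨ w * v * w⁻¹ = v⁻¹) ∨ (w * v * w⁻¹ = v' ∨ w * v * w⁻¹ = v'⁻¹))
    (h2 : (w * v' * w⁻¹ = v ∨ w * v' * w⁻¹ = v⁻¹) ∨ (w * v' * w⁻¹ = v' ∨ w * v' * w⁻¹ = v'⁻¹)) :
    w * v = v * w := by
  have inj : ∀ x y : G, w * x * w⁻¹ = w * y * w⁻¹ → x = y := by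
    intro x y h
    exact mul_left_cancel (mul_right_cancel h)
  have hinv : ∀ x : G, w * x⁻¹ * w⁻¹ = (w * x * w⁻¹)⁻¹ := by intro x; group
  rcases h1 with h1 | h1
  · exact comm_of_conj_inv hw h1
  · rcases h2 with h2 | h2
    · have h3 : w ^ 2 * v * (w ^ 2)⁻¹ = v ∨ w ^ 2 * v * (w ^ 2)⁻¹ = v⁻¹ := by
        have e : w ^ 2 * v * (w ^ 2)⁻¹ = w * (w * v * w⁻¹) * w⁻¹ := by simp only [pow_two, mul_assoc, _root_.mul_inv_rev]
        rw [e]
        rcases h1 with h1 | h1
        · rw [h1]; exact h2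
        · rw [h1, hinv]
          rcases h2 with h2 | h2
          · right; rw [h2]
          · left; rw [h2, inv_inv]
      have h4 := comm_of_conj_inv (hw.pow 2) h3
      obtain ⟨m, hm⟩ := hw.exists_pow (k := 2) (by norm_num)
      have h5 : Commute ((w ^ 2) ^ m) v := (show Commute (w ^ 2) v from h4).pow_left m
      rw [hm] at h5
      exact h5
    · exfalso
      rcases h1 with h1 | h1 <;> rcases h2 with h2 | h2
      · exact hv (inj _ _ (h1.trans h2.symm))
      · exact hv' (inj _ _ (by rw [hinv, h2, inv_inv, h1]))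
      · exact hv' (inj _ _ (by rw [hinv, h2, h1]))
      · exact hv (inj _ _ (h1.trans h2.symm))

/-- `⟨u1, u2⟩` -/
def Q5 : Subgroup Fi23 where
  carrier := {v | ∃ i j : ℤ, v = u1 ^ i * u2 ^ j}
  one_mem' := ⟨0, 0, by simp⟩
  mul_mem' := by
    rintro _ _ ⟨i, j, rfl⟩ ⟨i', j', rfl⟩
    refine ⟨i + i', j + j', ?_⟩
    have hc : u2 ^ j * u1 ^ i' = u1 ^ i' * u2 ^ j := (((show Commute u1 u2 from u1_u2).zpow_left i').zpow_right j).eq.symm
    calc u1 ^ i * u2 ^ j * (u1 ^ i' * u2 ^ j') = u1 ^ i * (u2 ^ j * u1 ^ i') * u2 ^ j' := by group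
      _ = u1 ^ (i + i') * u2 ^ (j + j') := by rw [hc, zpow_add, zpow_add]; group
  inv_mem' := by
    rintro _ ⟨i, j, rfl⟩
    refine ⟨-i, -j, ?_⟩
    have hc : Commute (u1 ^ i) (u2 ^ j) := (((show Commute u1 u2 from u1_u2).zpow_left i).zpow_right j)
    rw [mul_inv_rev, zpow_neg, zpow_neg]
    exact (hc.inv_inv).eq.symm

theorem Tel_u1 : Tel u1 := Tel.of_three u1_pow
theorem Tel_u2 : Tel u2 := Tel.of_three u2_pow

theorem u1_ne_u2 : u1 ≠ u2 := by
  intro h
  have h1 : rho (u1 * u2⁻¹) 11589 = 11589 := by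
    rw [h, mul_inv_cancel, map_one]
    rfl
  exact nofixB (by norm_num) y5_fix1 h1

theorem u1_ne_u2' : u1 ≠ u2⁻¹ := by
  intro h
  have h1 : rho (u1 * u2) 11589 = 11589 := by
    rw [h, inv_mul_cancel, map_one]
    rfl
  exact nofixA (by norm_num) y5_fix1 h1

theorem class4 {w : Fi23} (hwy : w * elw y5 = elw y5 * w) {v : Fi23} (hv : v ≠ 1) (hvQ : w * v * w⁻¹ ∈ Q5)
    {p : ℕ} (hp : p < 31671) (hvp : rho v p = p) (hyp : rho (elw y5) p = p) :
    (w * v * w⁻¹ = u1 ∨ w * v * w⁻¹ = u1⁻¹) ∨ (w * v * w⁻¹ = u2 ∨ w * v * w⁻¹ = u2⁻¹) := by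
  obtain ⟨i, j, hij⟩ := hvQ
  have h1 : rho (u1 ^ i * u2 ^ j) (rho w p) = rho w p := by
    rw [← hij, map_mul, map_mul, map_inv, Equiv.Perm.mul_apply, Equiv.Perm.mul_apply,
      Equiv.Perm.inv_eq_iff_eq.2 rfl, hvp]
  have h2 := no_fix i j (act_lt w hp) (fix_of_comm_fix hwy.symm hyp) h1
  rcases cases_three u1_pow i with ⟨hi, hi'⟩ | ⟨hi, hi'⟩ <;> rcases cases_three u2_pow j with ⟨hj, hj'⟩ | ⟨hj, hj'⟩
  · exfalso
    rw [hi', hj', mul_one] at hij
    apply hv
    calc v = w⁻¹ * (w * v * w⁻¹) * w := by group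
      _ = 1 := by rw [hij]; group
  · right
    rw [hij, hi', one_mul]
    exact hj'
  · left
    rw [hij, hj', mul_one]
    exact hi'
  · rcases h2 with h2 | h2
    · exact absurd h2 hi
    · exact absurd h2 hj


end Cfsg.Agent.LThreeFi23

end

-- merged: Cfsg.Agent.LThreeFi23.PrimesE
section

/-!
# 3-elements of `Fi23` commuting with elements of order 5, second part (helper48)
-/

set_option autoImplicit false
set_option linter.constructorNameAsVariable false

namespace Cfsg.Agent.LThreeFi23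

open Subgroup Cfsg Cfsg.Agent.Lib.PermNet Cfsg.Agent.Fischer.Fi23Hom
open Cfsg.Spor (Fi23)

theorem u1_y5 : Commute u1 (elw y5) := by
  have h := comm_words [.a, .b] y5 (by decide +kernel)
  rw [u1_eq] at h
  exact h

theorem u2_y5 : Commute u2 (elw y5) := by
  have h := comm_words [.h, .i] y5 (by decide +kernel)
  rw [u2_eq] at h
  exact h

theorem u2_fixb : rho u2 8004 = 8004 := by
  rw [← u2_eq]
  exact fix_b (comm_word_let _ _ (by decide +kernel))

theorem LUab {w : Fi23} (h : w * u1 = u1 * w) :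
    ∃ i : ℕ, rho ((u1 ^ i)⁻¹ * w) 11589 = 11589 ∧ rho ((u1 ^ i)⁻¹ * w) 8004 = 8004 := by
  rw [← T_ab] at h ⊢
  exact LU (p := 11589) (q := 8004) (by norm_num) (by norm_num) ncom_ab h

theorem LUhi {w : Fi23} (h : w * u2 = u2 * w) :
    ∃ i : ℕ, rho ((u2 ^ i)⁻¹ * w) 7999 = 7999 ∧ rho ((u2 ^ i)⁻¹ * w) 8007 = 8007 := by
  rw [← T_hi] at h ⊢
  exact LU (p := 7999) (q := 8007) (by norm_num) (by norm_num) ncom_hi h

theorem norm5_core {w : Fi23} (hwy : w * elw y5 = elw y5 * w) (hw : Tel w)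
    (h1 : w * u1 = u1 * w) (h2 : w * u2 = u2 * w) : w ∈ Q5 := by
  obtain ⟨i, hi1, hi2⟩ := LUab h1
  obtain ⟨w', hw'⟩ : ∃ w', w' = (u1 ^ i)⁻¹ * w := ⟨_, rfl⟩
  rw [← hw'] at hi1 hi2
  have C1 : Commute u1 w := h1.symm
  have C2 : Commute u2 w := h2.symm
  have C5 : Commute w (elw y5) := hwy
  have hw't : Tel w' := by
    rw [hw']
    exact ((Tel_u1.pow i).inv).mul hw ((C1.pow_left i).inv_left).eq
  have C2' : Commute u2 w' := by
    rw [hw']
    exact ((u_comm.symm.pow_right i).inv_right).mul_right C2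
  have C5' : Commute w' (elw y5) := by
    rw [hw']
    exact ((u1_y5.pow_left i).inv_left).mul_left C5
  obtain ⟨j, hj1, hj2⟩ := LUhi (w := w') C2'.symm.eq
  have inv_fix : ∀ {p : ℕ}, rho u2 p = p → rho (u2 ^ j)⁻¹ p = p := by
    intro p hp
    exact fix_inv (rho_pow_fix hp j)
  have e1 : (u2 ^ j)⁻¹ * w' = 1 := by
    have fa : rho ((u2 ^ j)⁻¹ * w') 11589 = 11589 := by
      rw [map_mul, Equiv.Perm.mul_apply, hi1, inv_fix u2_fix]
    have fb : rho ((u2 ^ j)⁻¹ * w') 8004 = 8004 := by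
      rw [map_mul, Equiv.Perm.mul_apply, hi2, inv_fix u2_fixb]
    apply r5core
    · exact ((Tel_u2.pow j).inv).mul hw't ((C2'.pow_left j).inv_left).eq
    · exact (((u2_y5.pow_left j).inv_left).mul_left C5').eq
    · exact comm_a fa
    · exact comm_b fb
    · exact comm_h hj1
    · exact comm_i hj2
  have e2 : w' = u2 ^ j := (inv_mul_eq_one.1 e1).symm
  refine ⟨i, j, ?_⟩
  rw [zpow_natCast, zpow_natCast, ← e2, hw', mul_inv_cancel_left]

theorem norm5 {w : Fi23} (hwy : w * elw y5 = elw y5 * w) (hw : Tel w) (hn : ∀ q ∈ Q5, w * q * w⁻¹ ∈ Q5) :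
    w ∈ Q5 := by
  have m1 : u1 ∈ Q5 := ⟨1, 0, by simp⟩
  have m2 : u2 ∈ Q5 := ⟨0, 1, by simp⟩
  have c1 := class4 hwy u1_ne (hn _ m1) (p := 8007) (by norm_num) u1_fix y5_fix8
  have c2 := class4 hwy u2_ne (hn _ m2) (p := 11589) (by norm_num) u2_fix y5_fix1
  have h1 : w * u1 = u1 * w := swap_lemma hw u1_ne_u2 u1_ne_u2' c1 c2
  have h2 : w * u2 = u2 * w := by
    refine swap_lemma hw u1_ne_u2.symm ?_ (Or.symm c2) (Or.symm c1)
    intro h
    apply u1_ne_u2'
    rw [h, inv_inv]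
  exact norm5_core hwy hw h1 h2

/-- a 3-element commuting with `y5` is conjugate to an element of `⟨u1, u2⟩` -/
theorem r5 {w : Fi23} (hw : Tel w) (h : w * elw y5 = elw y5 * w) : ∃ g : Fi23, g * w * g⁻¹ ∈ Q5 := by
  obtain ⟨g, -, hg⟩ := conj_of_normalizer (centralizer ({elw y5} : Set Fi23)) Q5
    (by
      rintro _ ⟨i, j, rfl⟩
      rw [mem_centralizer_singleton_iff]
      exact ((u1_y5.zpow_left i).mul_left (u2_y5.zpow_left j)).eq)
    (by
      rintro ⟨_, i, j, rfl⟩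
      refine ⟨1, Subtype.ext ?_⟩
      change (u1 ^ i * u2 ^ j) ^ 3 ^ 1 = 1
      have hc : Commute (u1 ^ i) (u2 ^ j) := ((u_comm.zpow_left i).zpow_right j)
      rw [pow_one, hc.mul_pow, ← zpow_natCast, ← zpow_natCast, ← zpow_mul, ← zpow_mul, mul_comm i, mul_comm j,
        zpow_mul, zpow_mul, zpow_natCast, zpow_natCast, u1_pow, u2_pow, one_zpow, one_zpow, mul_one])
    (by
      intro w hwC hw hn
      rw [mem_centralizer_singleton_iff] at hwC
      exact norm5 hwC hw hn)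
    (mem_centralizer_singleton_iff.2 h) hw
  exact ⟨g, hg⟩

end Cfsg.Agent.LThreeFi23

end

-- merged: Cfsg.Agent.LThreeFi23.Classes
section

/-!
# The two classes of elements of order 3 with a nonsolvable centralizer candidate (helper48)
-/

set_option autoImplicit false
set_option linter.constructorNameAsVariable false

namespace Cfsg.Agent.LThreeFi23

open Subgroup Cfsg Cfsg.Agent.Lib.PermNet Cfsg.Agent.Fischer.Fi23Hom
open Cfsg.Spor (Fi23)

/-- the element `(a b)(h i)` -/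
def xC : Fi23 := u1 * u2

theorem ncom_zj : ¬ Com 0 8006 := ncom_pt (x := .z) rfl m_0

theorem isConj_of_pair {p q : ℕ} (hp : p < 31671) (hq : q < 31671) (h : ¬ Com p q) : IsConj (T p * T q) uu := by
  obtain ⟨g, hg, hg'⟩ := pair_trans (p := 0) (q := 8006) (by norm_num) (by norm_num) hp hq ncom_zj h
  apply IsConj.symm
  rw [isConj_iff]
  refine ⟨g, ?_⟩
  rw [← hg, ← hg', T_act g (by norm_num), T_act g (by norm_num), T0, T8006]
  unfold uu
  group

theorem isConj_uu_inv : IsConj uu⁻¹ uu := by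
  rw [isConj_iff]
  refine ⟨el .z, ?_⟩
  rw [uu_inv, el_inv]
  calc el .z * (el .j * el .z) * el .z = el .z * el .j * (el .z * el .z) := by group
    _ = uu := by rw [el_sq, mul_one]; rfl

theorem isConj_u1 : IsConj u1 uu := by
  rw [← T_ab]
  exact isConj_of_pair (p := 11589) (q := 8004) (by norm_num) (by norm_num) ncom_ab

theorem isConj_u2 : IsConj u2 uu := by
  rw [← T_hi]
  exact isConj_of_pair (p := 7999) (q := 8007) (by norm_num) (by norm_num) ncom_hi

theorem isConj_inv {G : Type*} [Group G] {x y : G} (h : IsConj x y) : IsConj x⁻¹ y⁻¹ := by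
  obtain ⟨g, hg⟩ := isConj_iff.1 h
  exact isConj_iff.2 ⟨g, by rw [← hg]; group⟩

theorem a_u1 : el .a * u1⁻¹ * el .a = u1 := by
  rw [u1_inv]
  calc el .a * (el .b * el .a) * el .a = el .a * el .b * (el .a * el .a) := by group
    _ = u1 := by rw [el_sq, mul_one]; rfl

theorem h_u2 : el .h * u2⁻¹ * el .h = u2 := by
  rw [u2_inv]
  calc el .h * (el .i * el .h) * el .h = el .h * el .i * (el .h * el .h) := by group
    _ = u2 := by rw [el_sq, mul_one]; rfl

theorem a_comm_u2 : Commute (el .a) u2 := by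
  have h := comm_words [.a] [.h, .i] (by decide +kernel)
  rw [elw_one, u2_eq] at h
  exact h

theorem h_comm_u1 : Commute (el .h) u1 := by
  have h := comm_words [.h] [.a, .b] (by decide +kernel)
  rw [elw_one, u1_eq] at h
  exact h

theorem conj_one {v : Fi23} (hv : Commute (el .a) v) : IsConj (u1⁻¹ * v) (u1 * v) := by
  rw [isConj_iff]
  refine ⟨el .a, ?_⟩
  rw [el_inv]
  calc el .a * (u1⁻¹ * v) * el .a = el .a * u1⁻¹ * (v * el .a) := by group
    _ = el .a * u1⁻¹ * (el .a * v) := by rw [hv.eq]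
    _ = u1 * v := by rw [← mul_assoc, a_u1]

theorem conj_two {v : Fi23} (hv : Commute (el .h) v) : IsConj (v * u2⁻¹) (v * u2) := by
  rw [isConj_iff]
  refine ⟨el .h, ?_⟩
  rw [el_inv]
  calc el .h * (v * u2⁻¹) * el .h = (el .h * v) * u2⁻¹ * el .h := by group
    _ = (v * el .h) * u2⁻¹ * el .h := by rw [hv.eq]
    _ = v * (el .h * u2⁻¹ * el .h) := by group
    _ = v * u2 := by rw [h_u2]

/-- nontrivial elements of `⟨u1, u2⟩` -/
theorem class_Q5 {x : Fi23} (hx : x ∈ Q5) (h1 : x ≠ 1) : IsConj x uu ∨ IsConj x xC := by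
  obtain ⟨i, j, rfl⟩ := hx
  rcases cases_three u1_pow i with ⟨-, hi'⟩ | ⟨-, hi'⟩ <;> rcases cases_three u2_pow j with ⟨-, hj'⟩ | ⟨-, hj'⟩
  · exact absurd (by rw [hi', hj', mul_one]) h1
  · left
    rw [hi', one_mul]
    rcases hj' with h | h <;> rw [h]
    · exact isConj_u2
    · exact (isConj_inv isConj_u2).trans isConj_uu_inv
  · left
    rw [hj', mul_one]
    rcases hi' with h | h <;> rw [h]
    · exact isConj_u1
    · exact (isConj_inv isConj_u1).trans isConj_uu_inv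
  · right
    rcases hi' with h | h <;> rcases hj' with h' | h' <;> rw [h, h']
    · exact IsConj.refl _
    · exact conj_two h_comm_u1
    · exact conj_one a_comm_u2
    · exact (conj_one a_comm_u2.inv_right).trans (conj_two h_comm_u1)

theorem class_uu {x : Fi23} {i : ℕ} (hx : x = uu ^ i) (h1 : x ≠ 1) : IsConj x uu := by
  rcases cases_three uu_pow i with ⟨-, hi⟩ | ⟨-, hi⟩
  · rw [zpow_natCast] at hi
    exact absurd (by rw [hx, hi]) h1
  · rw [zpow_natCast] at hi
    rw [hx]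
    rcases hi with h | h <;> rw [h]
    exact isConj_uu_inv

end Cfsg.Agent.LThreeFi23

end

-- merged: Cfsg.Agent.LThreeFi23.Agree
section

/-!
# Equality of words through the points of the letters; conjugacy of elements of order 5 (helper48)
-/

set_option autoImplicit false
set_option linter.constructorNameAsVariable false
set_option maxRecDepth 100000

namespace Cfsg.Agent.LThreeFi23

open Subgroup Cfsg Cfsg.Agent.Lib.PermNet Cfsg.Agent.Fischer.Fi23Hom
open Cfsg.Spor (Fi23)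

/-- both words agree on the points of the list -/
noncomputable def agree (l l' : List Lt) (ps : List ℕ) : Bool :=
  List.rec (motive := fun _ => Bool) true (fun p _ ih => and (Nat.beq (ptw l p) (ptw l' p)) ih) ps

theorem agree_spec {l l' : List Lt} : ∀ {ps : List ℕ}, agree l l' ps = true → ∀ p ∈ ps, ptw l p = ptw l' p := by
  intro ps
  induction ps with
  | nil => intro _ p hp; exact absurd hp (by simp)
  | cons q ps ih =>
    intro h p hp
    have h' : and (Nat.beq (ptw l q) (ptw l' q)) (agree l l' ps) = true := h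
    rw [Bool.and_eq_true] at h'
    rcases List.mem_cons.1 hp with rfl | hp
    · exact Nat.eq_of_beq_eq_true h'.1
    · exact ih h'.2 p hp

/-- two words that agree on the points of the letters other than `e` are equal -/
theorem elw_eq_of_agree {l l' : List Lt}
    (h : agree l l' [11589, 8004, 8003, 8000, 8002, 8005, 7999, 8007, 8006, 0] = true) : elw l = elw l' := by
  have h1 : (elw l')⁻¹ * elw l = 1 := by
    apply eq_one_of_ten
    intro x hx
    rw [map_mul, map_inv, Equiv.Perm.mul_apply, Equiv.Perm.inv_eq_iff_eq, ← ptw_eq, ← ptw_eq]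
    apply agree_spec h
    cases x
    case e => exact absurd rfl hx
    all_goals decide
  exact (inv_mul_eq_one.1 h1).symm

/-- `a b c d` -/
def y5' : List Lt := [.a, .b, .c, .d]

/-- conjugates `y5` to the inverse of `a b c d` -/
def t5 : List Lt := [.e, .f, .g, .j, .z, .d, .e, .f, .g, .j, .c, .d, .e, .f, .g, .b, .c, .d, .e, .f, .a, .b, .c, .d, .e]

/-- conjugates `a b c d` to its square -/
def s5 : List Lt := [.a, .c, .b]

/-- conjugates `y5` to `y5 (a b c d)` -/
def g5 : List Lt := [.e, .d, .h, .i, .c, .d, .h, .f, .g, .e, .f, .d, .e, .a, .b, .c, .d, .h, .i, .e, .f, .c, .d, .e, .b,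
  .c, .d, .h, .a, .b, .c, .d, .e, .f, .g, .j, .i, .f, .e, .d, .h, .g, .e, .f, .c, .d, .e, .b, .c, .d, .h, .i, .f, .e,
  .b, .c, .d, .h, .a, .b, .c, .d, .e, .f, .g, .i, .d, .h, .e, .f, .d, .e, .b, .c, .d, .h, .i, .c, .d, .e, .b, .c, .d,
  .h, .a, .b, .c, .d, .e, .f, .c, .d, .h, .i, .e, .b, .c, .d, .h, .a, .b, .c, .d, .e]

set_option Elab.async false in
theorem c_t5 : agree (t5 ++ y5) (y5'.reverse ++ t5) [11589, 8004, 8003, 8000, 8002, 8005, 7999, 8007, 8006, 0] = true := by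
  (rewrite [show @Cfsg.Agent.LThreeFi23.agree = delta% @Cfsg.Agent.LThreeFi23.agree from by delta Cfsg.Agent.LThreeFi23.agree; rfl, show @Cfsg.Agent.LThreeFi23.ptw = delta% @Cfsg.Agent.LThreeFi23.ptw from by delta Cfsg.Agent.LThreeFi23.ptw; rfl, Cfsg.Agent.Lib.PermNetFast.ptWord_fast]; decide +kernel)

theorem c_s5 : agree (s5 ++ y5') (y5' ++ (y5' ++ s5)) [11589, 8004, 8003, 8000, 8002, 8005, 7999, 8007, 8006, 0] = true := by
  decide +kernel

set_option Elab.async false in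
theorem c_g5 : agree (g5 ++ y5) (y5 ++ (y5' ++ g5)) [11589, 8004, 8003, 8000, 8002, 8005, 7999, 8007, 8006, 0] = true := by
  (rewrite [show @Cfsg.Agent.LThreeFi23.agree = delta% @Cfsg.Agent.LThreeFi23.agree from by delta Cfsg.Agent.LThreeFi23.agree; rfl, show @Cfsg.Agent.LThreeFi23.ptw = delta% @Cfsg.Agent.LThreeFi23.ptw from by delta Cfsg.Agent.LThreeFi23.ptw; rfl, Cfsg.Agent.Lib.PermNetFast.ptWord_fast]; decide +kernel)

end Cfsg.Agent.LThreeFi23

end

-- merged: Cfsg.Agent.LThreeFi23.PairSub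
section

/-!
# Conjugacy in a group of order 25 (helper48)
-/

set_option autoImplicit false

namespace Cfsg.Agent.LThreeFi23

open Subgroup

section

variable {G : Type*} [Group G]

/-- the subgroup generated by two commuting elements -/
def pairSub (x y : G) (h : Commute x y) : Subgroup G where
  carrier := {v | ∃ i j : ℤ, v = x ^ i * y ^ j}
  one_mem' := ⟨0, 0, by rw [zpow_zero, zpow_zero, one_mul]⟩
  mul_mem' := by
    rintro _ _ ⟨i, j, rfl⟩ ⟨i', j', rfl⟩
    refine ⟨i + i', j + j', ?_⟩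
    have hc : y ^ j * x ^ i' = x ^ i' * y ^ j := ((h.zpow_left i').zpow_right j).eq.symm
    calc x ^ i * y ^ j * (x ^ i' * y ^ j') = x ^ i * (y ^ j * x ^ i') * y ^ j' := by group
      _ = x ^ (i + i') * y ^ (j + j') := by rw [hc, zpow_add, zpow_add]; group
  inv_mem' := by
    rintro _ ⟨i, j, rfl⟩
    refine ⟨-i, -j, ?_⟩
    have hc : Commute (x ^ i) (y ^ j) := (h.zpow_left i).zpow_right j
    rw [mul_inv_rev, zpow_neg, zpow_neg]
    exact (hc.inv_inv).eq.symm

theorem pairSub_pow {x y : G} (h : Commute x y) {p : ℕ} (hx : x ^ p = 1) (hy : y ^ p = 1) {v : G}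
    (hv : v ∈ pairSub x y h) : v ^ p = 1 := by
  obtain ⟨i, j, rfl⟩ := hv
  have hc : Commute (x ^ i) (y ^ j) := (h.zpow_left i).zpow_right j
  rw [hc.mul_pow, ← zpow_natCast, ← zpow_natCast, ← zpow_mul, ← zpow_mul, mul_comm i, mul_comm j,
    zpow_mul, zpow_mul, zpow_natCast, zpow_natCast, hx, hy, one_zpow, one_zpow, mul_one]

theorem pairSub_pgroup {x y : G} (h : Commute x y) {p : ℕ} (hx : x ^ p = 1) (hy : y ^ p = 1) :
    IsPGroup p ↥(pairSub x y h) := fun v => ⟨1, Subtype.ext (by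
  change (v : G) ^ p ^ 1 = 1
  rw [pow_one]
  exact pairSub_pow h hx hy v.2)⟩

theorem pairSub_card [Finite G] {x y : G} (h : Commute x y) {p : ℕ} [Fact p.Prime] (hx : x ^ p = 1)
    (hy : y ^ p = 1) (hx1 : x ≠ 1) (hn : y ∉ zpowers x) : p ^ 2 ∣ Nat.card ↥(pairSub x y h) := by
  obtain ⟨n, hn'⟩ := IsPGroup.iff_card.1 (pairSub_pgroup h hx hy)
  have h1 : zpowers x ≤ pairSub x y h := by
    rw [zpowers_le]
    exact ⟨1, 0, by rw [zpow_one, zpow_zero, mul_one]⟩
  have h2 : zpowers x < pairSub x y h := by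
    refine lt_of_le_of_ne h1 ?_
    intro h'
    apply hn
    rw [h']
    exact ⟨0, 1, by rw [zpow_one, zpow_zero, one_mul]⟩
  have h3 : Nat.card ↥(zpowers x) < Nat.card ↥(pairSub x y h) :=
    Set.ncard_lt_ncard (by exact_mod_cast h2) (Set.toFinite _)
  rw [Nat.card_zpowers, orderOf_eq_prime hx hx1, hn'] at h3
  rw [hn']
  apply pow_dvd_pow
  by_contra hcon
  have h4 : n ≤ 1 := by omega
  have h5 : p ^ n ≤ p ^ 1 := Nat.pow_le_pow_right (Fact.out : p.Prime).pos h4
  rw [pow_one] at h5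
  omega

theorem zpow_eq_of_mod {y : G} (hy : y ^ 5 = 1) {i j : ℤ} (h : (5 : ℤ) ∣ i - j) : y ^ i = y ^ j := by
  obtain ⟨k, hk⟩ := h
  have : i = j + 5 * k := by omega
  rw [this, zpow_add, zpow_mul, show (5 : ℤ) = ((5 : ℕ) : ℤ) from rfl, zpow_natCast, hy, one_zpow, mul_one]

theorem conj_pow_two {s y : G} (h : s * y = y ^ 2 * s) (k : ℕ) (j : ℤ) :
    s ^ k * y ^ j * (s ^ k)⁻¹ = y ^ (2 ^ k * j) := by
  have h1 : s * y * s⁻¹ = y ^ 2 := by rw [h, mul_inv_cancel_right]
  have h2 : ∀ j : ℤ, s * y ^ j * s⁻¹ = y ^ (2 * j) := by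
    intro j
    rw [← conj_zpow, h1, zpow_mul, show (2 : ℤ) = ((2 : ℕ) : ℤ) from rfl, zpow_natCast]
  induction k generalizing j with
  | zero => rw [pow_zero, pow_zero]; group
  | succ k ih =>
    calc s ^ (k + 1) * y ^ j * (s ^ (k + 1))⁻¹ = s ^ k * (s * y ^ j * s⁻¹) * (s ^ k)⁻¹ := by
          rw [pow_succ]; group
      _ = y ^ (2 ^ (k + 1) * j) := by rw [h2, ih]; congr 1; ring

theorem conj_pair {Y Y' T S K : G} (hY : Y ^ 5 = 1) (hY' : Y' ^ 5 = 1) (hc : Commute Y Y') (hs : Commute S Y)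
    (hT : T * Y = Y'⁻¹ * T) (hS : S * Y' = Y' ^ 2 * S) (hK : K * Y = Y * Y' * K) (i j : ℤ) :
    ∃ g : G, ∃ m : ℤ, g * (Y ^ i * Y' ^ j) * g⁻¹ = Y ^ m := by
  by_cases hj : (5 : ℤ) ∣ j
  · refine ⟨1, i, ?_⟩
    rw [zpow_eq_of_mod hY' (j := 0) (by rwa [sub_zero]), zpow_zero]
    group
  by_cases hi : (5 : ℤ) ∣ i
  · refine ⟨T⁻¹, -j, ?_⟩
    rw [zpow_eq_of_mod hY (j := 0) (by rwa [sub_zero]), zpow_zero, one_mul]
    have h : Y' = T * Y⁻¹ * T⁻¹ := by
      have h2 : T * Y * T⁻¹ = Y'⁻¹ := by rw [hT, mul_inv_cancel_right]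
      rw [← inv_inv Y', ← h2]
      group
    rw [h, conj_zpow]
    group
  obtain ⟨k, hk⟩ : ∃ k : ℕ, (5 : ℤ) ∣ 2 ^ k * j - i := by
    have h1 : i % 5 = 1 ∨ i % 5 = 2 ∨ i % 5 = 3 ∨ i % 5 = 4 := by omega
    have h2 : j % 5 = 1 ∨ j % 5 = 2 ∨ j % 5 = 3 ∨ j % 5 = 4 := by (clear * - hj; omega)
    have key : (5 : ℤ) ∣ j - i ∨ (5 : ℤ) ∣ 2 * j - i ∨ (5 : ℤ) ∣ 4 * j - i ∨ (5 : ℤ) ∣ 8 * j - i := by
      rcases h1 with h1 | h1 | h1 | h1 <;> rcases h2 with h2 | h2 | h2 | h2 <;> (clear * - h1 h2; solve | lia | omega)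
    rcases key with h | h | h | h
    · exact ⟨0, by rw [pow_zero, one_mul]; exact h⟩
    · exact ⟨1, by rw [pow_one]; exact h⟩
    · exact ⟨2, by norm_num; exact h⟩
    · exact ⟨3, by norm_num; exact h⟩
  refine ⟨K⁻¹ * S ^ k, i, ?_⟩
  have h1 : S ^ k * (Y ^ i * Y' ^ j) * (S ^ k)⁻¹ = Y ^ i * Y' ^ i := by
    have h2 := (hs.pow_left k).zpow_right i
    calc S ^ k * (Y ^ i * Y' ^ j) * (S ^ k)⁻¹ = (S ^ k * Y ^ i) * Y' ^ j * (S ^ k)⁻¹ := by group
      _ = Y ^ i * (S ^ k * Y' ^ j * (S ^ k)⁻¹) := by rw [h2.eq]; group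
      _ = Y ^ i * Y' ^ i := by rw [conj_pow_two hS, zpow_eq_of_mod hY' hk]
  have h3 : Y * Y' = K * Y * K⁻¹ := by rw [hK, mul_inv_cancel_right]
  calc K⁻¹ * S ^ k * (Y ^ i * Y' ^ j) * (K⁻¹ * S ^ k)⁻¹
      = K⁻¹ * (S ^ k * (Y ^ i * Y' ^ j) * (S ^ k)⁻¹) * K := by group
    _ = K⁻¹ * (Y * Y') ^ i * K := by rw [h1, ← hc.mul_zpow]
    _ = Y ^ i := by rw [h3, conj_zpow]; group

theorem exists_conj_mem [Finite G] {p n : ℕ} [Fact p.Prime] (P : Subgroup G)
    (hP : IsPGroup p ↥P) (h1 : p ^ n ∣ Nat.card ↥P) (h2 : ¬ p ^ (n + 1) ∣ Nat.card G) {y : G} {k : ℕ}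
    (hy : y ^ p ^ k = 1) : ∃ g : G, g * y * g⁻¹ ∈ P := by
  have hidx : ¬ p ∣ P.index := by
    intro h
    apply h2
    rw [pow_succ, ← P.card_mul_index]
    exact mul_dvd_mul h1 h
  have hz : IsPGroup p ↥(zpowers y) := by
    rintro ⟨_, i, rfl⟩
    refine ⟨k, Subtype.ext ?_⟩
    change (y ^ i) ^ p ^ k = 1
    rw [← zpow_natCast, ← zpow_mul, mul_comm, zpow_mul, zpow_natCast, hy, one_zpow]
  obtain ⟨Q, hQ⟩ := hz.exists_le_sylow
  obtain ⟨g, hg⟩ := MulAction.exists_smul_eq G Q (hP.toSylow hidx)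
  refine ⟨g, ?_⟩
  have h3 : g * y * g⁻¹ ∈ (g • Q : Sylow p G) := by
    have h4 : y ∈ Q := hQ (mem_zpowers y)
    have h5 := Subgroup.smul_mem_pointwise_smul y (MulAut.conj g) (Q : Subgroup G) h4
    exact h5
  rw [hg] at h3
  exact h3

/-- the Sylow subgroup has prime order -/
theorem exists_conj_zpow [Finite G] {p : ℕ} [hp : Fact p.Prime] {Y : G} (hY : Y ^ p = 1) (h1 : Y ≠ 1)
    (h2 : ¬ p ^ 2 ∣ Nat.card G) {y : G} (hy : y ^ p = 1) : ∃ g : G, ∃ i : ℤ, g * y * g⁻¹ = Y ^ i := by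
  have hz : IsPGroup p ↥(zpowers Y) := by
    rintro ⟨_, i, rfl⟩
    refine ⟨1, Subtype.ext ?_⟩
    change (Y ^ i) ^ p ^ 1 = 1
    rw [pow_one, ← zpow_natCast, ← zpow_mul, mul_comm, zpow_mul, zpow_natCast, hY, one_zpow]
  obtain ⟨g, i, hi⟩ := exists_conj_mem (n := 1) (zpowers Y) hz (by rw [Nat.card_zpowers, orderOf_eq_prime hY h1, pow_one])
    h2 (y := y) (k := 1) (by rwa [pow_one])
  exact ⟨g, i, hi.symm⟩

/-- an element commuting with a nontrivial element of order `p` commutes, after conjugation, with `Y` -/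
theorem comm_of_conj_zpow {p : ℕ} (hp : p.Prime) {Y : G} (hY : Y ^ p = 1) {x y g : G} {i : ℤ} (hy1 : y ≠ 1)
    (hxy : x * y = y * x) (hg : g * y * g⁻¹ = Y ^ i) : (g * x * g⁻¹) * Y = Y * (g * x * g⁻¹) := by
  have h1 : ¬ (p : ℤ) ∣ i := by
    rintro ⟨k, rfl⟩
    rw [zpow_mul, zpow_natCast, hY, one_zpow] at hg
    apply hy1
    calc y = g⁻¹ * (g * y * g⁻¹) * g := by group
      _ = 1 := by rw [hg]; group
  have h2 : Commute (g * x * g⁻¹) (Y ^ i) := by
    rw [← hg]
    change (g * x * g⁻¹) * (g * y * g⁻¹) = (g * y * g⁻¹) * (g * x * g⁻¹)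
    calc (g * x * g⁻¹) * (g * y * g⁻¹) = g * (x * y) * g⁻¹ := by group
      _ = (g * y * g⁻¹) * (g * x * g⁻¹) := by rw [hxy]; group
  have h3 : IsCoprime i (p : ℤ) := ((Nat.prime_iff_prime_int.1 hp).coprime_iff_not_dvd.2 h1).symm
  obtain ⟨a, b, hab⟩ := h3
  have h4 : Y = (Y ^ i) ^ a := by
    rw [← zpow_mul]
    have h5 : i * a = 1 - p * b := by linarith [mul_comm i a, mul_comm b (p : ℤ)]
    rw [h5, zpow_sub, zpow_one, zpow_mul, zpow_natCast, hY, one_zpow, inv_one, mul_one]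
  rw [h4]
  exact (h2.zpow_right a).eq

end

end Cfsg.Agent.LThreeFi23

end

-- merged: Cfsg.Agent.LThreeFi23.TwoCl
section

/-!
# Elements of prime order `r ≥ 5` of `Fi23`; elements of order 3 commuting with one (helper48)
-/

set_option autoImplicit false
set_option linter.constructorNameAsVariable false

namespace Cfsg.Agent.LThreeFi23

open Subgroup Cfsg Cfsg.Agent.Lib.PermNet Cfsg.Agent.Fischer.Fi23Hom
open Cfsg.Spor (Fi23)

/-! ### 5 -/

theorem ne_one_of_pchk {y : List Lt} {l : List ℕ} (h : pchk [(y, false)] l = true) {p : ℕ} (hp : p < 31671)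
    (hpl : p ∉ l) : elw y ≠ 1 := by
  intro h1
  apply hpl
  apply (pchk_mem h p).1
  refine ⟨hp, ?_⟩
  rw [pat_cons]
  refine ⟨⟨fun h3 => absurd ?_ h3, fun h3 => absurd h3 Bool.false_ne_true⟩, fun c hc => absurd hc (by simp)⟩
  change rho (elw y) p = p
  rw [h1, map_one]
  rfl

theorem y5_ne : elw y5 ≠ 1 := ne_one_of_pchk e_y5 (p := 0) (by norm_num) (by decide)
theorem y7_ne : elw y7 ≠ 1 := ne_one_of_pchk e_y7 (p := 11589) (by norm_num) (by decide)
theorem y11_ne : elw y11 ≠ 1 := ne_one_of_pchk fix11 (p := 1) (by norm_num) (by decide)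
theorem y13_ne : elw y13 ≠ 1 := ne_one_of_pchk e_y13 (p := 2) (by norm_num) (by decide)

theorem ne_one_of_pt {y : List Lt} {p : ℕ} (h : Nat.beq (ptw y p) p = false) : elw y ≠ 1 := by
  intro h1
  rw [ptw_eq, h1, map_one] at h
  change Nat.beq p p = false at h
  rw [Nat.beq_refl] at h
  exact absurd h (by decide)

theorem y17_ne : elw y17 ≠ 1 := ne_one_of_pt (p := 0) (by decide +kernel)
theorem y23_ne : elw y23 ≠ 1 := ne_one_of_pt (p := 0) (by decide +kernel)

theorem T5 : elw t5 * elw y5 = (elw y5')⁻¹ * elw t5 := by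
  rw [← elw_reverse, ← elw_append, ← elw_append]
  exact elw_eq_of_agree c_t5

theorem S5 : elw s5 * elw y5' = elw y5' ^ 2 * elw s5 := by
  rw [pow_two, ← elw_append, ← elw_append, ← elw_append, List.append_assoc]
  exact elw_eq_of_agree c_s5

theorem G5 : elw g5 * elw y5 = elw y5 * elw y5' * elw g5 := by
  rw [← elw_append, ← elw_append, ← elw_append, List.append_assoc]
  exact elw_eq_of_agree c_g5

theorem y5_comm : Commute (elw y5) (elw y5') := comm_words _ _ (by decide +kernel)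

theorem s5_comm : Commute (elw s5) (elw y5) := comm_words _ _ (by decide +kernel)

theorem pow_one_of_conj {G : Type*} [Group G] {T Y Y' : G} (hT : T * Y = Y'⁻¹ * T) (hY : Y ^ 5 = 1) :
    Y' ^ 5 = 1 := by
  have h : Y'⁻¹ = T * Y * T⁻¹ := by rw [hT, mul_inv_cancel_right]
  have h1 : (Y'⁻¹) ^ 5 = 1 := by
    rw [h, conj_pow, hY, mul_one, mul_inv_cancel]
  rwa [inv_pow, inv_eq_one] at h1

theorem y5'_pow : elw y5' ^ 5 = 1 := pow_one_of_conj T5 pow5

theorem y5_comm_a : Commute (elw y5) (el .a) := comm_word_let y5 .a (by decide +kernel)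

theorem y5'_mv : ¬ Commute (elw y5') (el .a) := by
  intro h
  have h2 : rho (elw y5') 11589 = 11589 := fix_a h.eq
  rw [← ptw_eq] at h2
  have h3 : Nat.beq (ptw y5' 11589) 11589 = false := by decide +kernel
  rw [h2] at h3
  exact absurd h3 (by decide)

theorem notin_abs {G : Type*} [Group G] {Y Y' a : G} (h : Commute Y a) (h' : ¬ Commute Y' a) : Y' ∉ zpowers Y := by
  rintro ⟨i, hi⟩
  exact h' (hi ▸ h.zpow_left i)

/-- every element of order 5 is conjugate to a power of `y5` -/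
theorem conj_five {y : Fi23} (hy : y ^ 5 = 1) : ∃ g : Fi23, ∃ i : ℤ, g * y * g⁻¹ = elw y5 ^ i := by
  have : Fact (Nat.Prime 5) := ⟨by norm_num⟩
  obtain ⟨g, i, j, hg⟩ := exists_conj_mem (n := 2) (pairSub _ _ y5_comm) (pairSub_pgroup y5_comm pow5 y5'_pow)
    (pairSub_card y5_comm pow5 y5'_pow y5_ne (notin_abs y5_comm_a y5'_mv)) (by rw [card_G]; norm_num) (y := y) (k := 1)
    (by rw [pow_one]; exact hy)
  obtain ⟨g', m, h⟩ := conj_pair pow5 y5'_pow y5_comm s5_comm T5 S5 G5 i j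
  refine ⟨g' * g, m, ?_⟩
  rw [← h, ← hg]
  simp only [mul_inv_rev, mul_assoc]

theorem prime_cases {r : ℕ} (hr : r.Prime) (hr5 : 5 ≤ r) (h : r ∣ 4089470473293004800) :
    r = 5 ∨ r = 7 ∨ r = 11 ∨ r = 13 ∨ r = 17 ∨ r = 23 := by
  have e : (4089470473293004800 : ℕ) = 2 ^ 18 * (3 ^ 13 * (5 ^ 2 * (7 * (11 * (13 * (17 * 23)))))) := by norm_num
  rw [e] at h
  have h2 := Nat.prime_two
  have h3 := Nat.prime_three
  have P5 := Nat.prime_five
  have P7 : Nat.Prime 7 := by norm_num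
  have P11 : Nat.Prime 11 := by norm_num
  have P13 : Nat.Prime 13 := by norm_num
  have P17 : Nat.Prime 17 := by norm_num
  have P23 : Nat.Prime 23 := by norm_num
  rcases (hr.dvd_mul).1 h with h | h
  · have := (Nat.prime_dvd_prime_iff_eq hr h2).1 (hr.dvd_of_dvd_pow h); omega
  rcases (hr.dvd_mul).1 h with h | h
  · have := (Nat.prime_dvd_prime_iff_eq hr h3).1 (hr.dvd_of_dvd_pow h); omega
  rcases (hr.dvd_mul).1 h with h | h
  · have := (Nat.prime_dvd_prime_iff_eq hr P5).1 (hr.dvd_of_dvd_pow h); omega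
  rcases (hr.dvd_mul).1 h with h | h
  · have := (Nat.prime_dvd_prime_iff_eq hr P7).1 h; omega
  rcases (hr.dvd_mul).1 h with h | h
  · have := (Nat.prime_dvd_prime_iff_eq hr P11).1 h; omega
  rcases (hr.dvd_mul).1 h with h | h
  · have := (Nat.prime_dvd_prime_iff_eq hr P13).1 h; omega
  rcases (hr.dvd_mul).1 h with h | h
  · have := (Nat.prime_dvd_prime_iff_eq hr P17).1 h; omega
  · have := (Nat.prime_dvd_prime_iff_eq hr P23).1 h; omega

theorem prime_dvd_card {y : Fi23} {r : ℕ} (hr : r.Prime) (hy : y ^ r = 1) (hy1 : y ≠ 1) :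
    r ∣ 4089470473293004800 := by
  have : Fact r.Prime := ⟨hr⟩
  rw [← card_G, ← orderOf_eq_prime hy hy1]
  exact _root_.orderOf_dvd_natCard y

theorem conj_seven {y : Fi23} (hy : y ^ 7 = 1) : ∃ g : Fi23, ∃ i : ℤ, g * y * g⁻¹ = elw y7 ^ i := by
  have : Fact (Nat.Prime 7) := ⟨by norm_num⟩
  exact exists_conj_zpow pow7 y7_ne (by rw [card_G]; norm_num) hy

theorem conj_eleven {y : Fi23} (hy : y ^ 11 = 1) : ∃ g : Fi23, ∃ i : ℤ, g * y * g⁻¹ = elw y11 ^ i := by
  have : Fact (Nat.Prime 11) := ⟨by norm_num⟩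
  exact exists_conj_zpow pow11 y11_ne (by rw [card_G]; norm_num) hy

theorem conj_thirteen {y : Fi23} (hy : y ^ 13 = 1) : ∃ g : Fi23, ∃ i : ℤ, g * y * g⁻¹ = elw y13 ^ i := by
  have : Fact (Nat.Prime 13) := ⟨by norm_num⟩
  exact exists_conj_zpow pow13 y13_ne (by rw [card_G]; norm_num) hy

theorem conj_seventeen {y : Fi23} (hy : y ^ 17 = 1) : ∃ g : Fi23, ∃ i : ℤ, g * y * g⁻¹ = elw y17 ^ i := by
  have : Fact (Nat.Prime 17) := ⟨by norm_num⟩
  exact exists_conj_zpow pow17 y17_ne (by rw [card_G]; norm_num) hy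

theorem conj_twentythree {y : Fi23} (hy : y ^ 23 = 1) : ∃ g : Fi23, ∃ i : ℤ, g * y * g⁻¹ = elw y23 ^ i := by
  have : Fact (Nat.Prime 23) := ⟨by norm_num⟩
  exact exists_conj_zpow pow23 y23_ne (by rw [card_G]; norm_num) hy

theorem conj_Tel {G : Type*} [Group G] {x : G} (hx : Tel x) (g : G) : Tel (g * x * g⁻¹) := by
  obtain ⟨n, hn⟩ := hx
  exact ⟨n, by rw [conj_pow, hn, mul_one, mul_inv_cancel]⟩

theorem conj_ne {G : Type*} [Group G] {x : G} (hx : x ≠ 1) (g : G) : g * x * g⁻¹ ≠ 1 := by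
  intro h
  apply hx
  calc x = g⁻¹ * (g * x * g⁻¹) * g := by group
    _ = 1 := by rw [h]; group

theorem isConj_of_conj {G : Type*} [Group G] {x y : G} (g : G) (h : IsConj (g * x * g⁻¹) y) : IsConj x y :=
  (isConj_iff.2 ⟨g, rfl⟩ : IsConj x (g * x * g⁻¹)).trans h

/-- **a nontrivial 3-element `x` commuting with an element of prime order at least 5** -/
theorem two_classes {x y : Fi23} {r : ℕ} (hr : r.Prime) (hr5 : 5 ≤ r) (hy : y ^ r = 1) (hy1 : y ≠ 1)
    (hx : Tel x) (hx1 : x ≠ 1) (hxy : x * y = y * x) : IsConj x uu ∨ IsConj x xC := by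
  rcases prime_cases hr hr5 (prime_dvd_card hr hy hy1) with rfl | rfl | rfl | rfl | rfl | rfl
  · obtain ⟨g, i, hg⟩ := conj_five hy
    obtain ⟨k, hk⟩ := r5 (conj_Tel hx g) (comm_of_conj_zpow hr pow5 hy1 hxy hg)
    have h1 := class_Q5 hk (conj_ne (conj_ne hx1 g) k)
    exact h1.imp (fun h => isConj_of_conj g (isConj_of_conj k h)) (fun h => isConj_of_conj g (isConj_of_conj k h))
  · obtain ⟨g, i, hg⟩ := conj_seven hy
    obtain ⟨k, m, hk⟩ := r7 (conj_Tel hx g) (comm_of_conj_zpow hr pow7 hy1 hxy hg)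
    exact Or.inl (isConj_of_conj g (isConj_of_conj k (class_uu hk (conj_ne (conj_ne hx1 g) k))))
  · obtain ⟨g, i, hg⟩ := conj_eleven hy
    exact absurd (r11 (conj_Tel hx g) (comm_of_conj_zpow hr pow11 hy1 hxy hg)) (conj_ne hx1 g)
  · obtain ⟨g, i, hg⟩ := conj_thirteen hy
    obtain ⟨m, hk⟩ := r13 (conj_Tel hx g) (comm_of_conj_zpow hr pow13 hy1 hxy hg)
    exact Or.inl (isConj_of_conj g (class_uu hk (conj_ne hx1 g)))
  · obtain ⟨g, i, hg⟩ := conj_seventeen hy
    exact absurd (r17 (conj_Tel hx g) (comm_of_conj_zpow hr pow17 hy1 hxy hg)) (conj_ne hx1 g)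
  · obtain ⟨g, i, hg⟩ := conj_twentythree hy
    exact absurd (r23 (conj_Tel hx g) (comm_of_conj_zpow hr pow23 hy1 hxy hg)) (conj_ne hx1 g)

end Cfsg.Agent.LThreeFi23

end

private theorem dce_2cbf0e44be59 : _root_.True := by
  try have : _root_.True := by simp only [_root_.Cfsg.Spor.coxLabel.congr_simp]
  try have : _root_.True := by simp only [_root_.Cfsg.Agent.LThreeFi23.pairSub.congr_simp]
  exact _root_.True.intro
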