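import Cfsg.Agent.H837.ThrChk
import Cfsg.Agent.Fischer.Y322Iso
import Cfsg.Agent.LThree.Base
import Cfsg.Agent.FastGrp
import Cfsg.Agent.Prune
set_option linter.all false

section
prune_inst 0x7f00000000000000000000000000000000000000000000000000000000000000000000000000000000000000000000000000000000000000000000000000000000000000000000000000000000000000003fffffffffffffffffffffffffffbeffbdffffffff

-- part: LThreeFi23/CentUu
section
set_option linter.all false
open scoped Cfsg.Agent.FastGrp

/-!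
# The centralizer of `u = z0 j` in `Fi23` (helper51)

`CC = C(z0, j)`, of order `4585351680`, is the image of `H8 ≅ PΩ₇(3)`; `C(u) = ⟨u⟩ × CC`.
-/

set_option autoImplicit false
set_option linter.constructorNameAsVariable false

namespace Cfsg.Agent.LThreeFi23

open Subgroup Cfsg Cfsg.Agent.Lib.PermNet Cfsg.Agent.Fischer.Fi23Hom
open Cfsg.Spor (Fi23)

theorem card_sup_of_commute {G : Type*} [Group G] (A B : Subgroup G) (hAB : ∀ a ∈ A, ∀ b ∈ B, Commute a b)
    (h : A ⊓ B = ⊥) : Nat.card ↥(A ⊔ B) = Nat.card ↥A * Nat.card ↥B := by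
  let f := MonoidHom.noncommCoprod A.subtype B.subtype (fun a b => hAB a a.2 b b.2)
  have hf : Function.Injective f := by
    refine (MonoidHom.noncommCoprod_injective _ _ _).2 ⟨A.subtype_injective, B.subtype_injective, ?_⟩
    rw [range_subtype, range_subtype, disjoint_iff]
    exact h
  have hr : f.range = A ⊔ B := by
    refine (MonoidHom.noncommCoprod_range _ _ _).trans ?_
    rw [range_subtype, range_subtype]
  rw [← hr, ← Nat.card_congr (MonoidHom.ofInjective hf).toEquiv, Nat.card_prod]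

/-- `C(z0, j)` -/
def CC : Subgroup Fi23 := centralizer {el .z, el .j}

theorem mem_CC {g : Fi23} : g ∈ CC ↔ g * el .z = el .z * g ∧ g * el .j = el .j * g := by
  unfold CC
  rw [mem_centralizer_iff]
  constructor
  · intro h
    exact ⟨(h (el .z) (Set.mem_insert _ _)).symm, (h (el .j) (Set.mem_insert_of_mem _ (Set.mem_singleton _))).symm⟩
  · rintro ⟨h1, h2⟩ y hy
    rcases hy with hy | hy
    · rw [hy]
      exact h1.symm
    · rw [Set.mem_singleton_iff] at hy
      rw [hy]
      exact h2.symm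

theorem CC_le : CC ≤ centralizer ({uu} : Set Fi23) := by
  intro g hg
  obtain ⟨h1, h2⟩ := mem_CC.1 hg
  rw [mem_centralizer_singleton_iff]
  unfold uu
  exact ((show Commute g (el .z) from h1).mul_right (show Commute g (el .j) from h2)).eq

section Card

open Cfsg.Agent.Lib.PermNetOrbit Cfsg.Agent.Fischer.Fi23Nets Cfsg.Agent.Fischer.Fi23Rel
  Cfsg.Agent.Fischer.Fi23OrbData Cfsg.Agent.Fischer.Fi23Orb

theorem card_stab : Nat.card ↥(stabL rho [1, 0]) = 4585351680 := by
  have h0 := stabL_step_of_check (k := 15) rho [] 0 31671 9 (nw_ok w0) (nw_img w0) cfix0 cm0 clt0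
  have h1 := stabL_step_of_check (k := 15) rho [0] 1 28160 9 (nw_ok w1) (nw_img w1) cfix1 cm1 clt1
  have h2 := stabL_step_of_check (k := 15) rho [1, 0] 11589 351 7 (nw_ok w2) (nw_img w2) cfix2 cm2 clt2
  have h3 := stabL_step_of_check (k := 15) rho [11589, 1, 0] 224 20160 6 (nw_ok w3) (nw_img w3) cfix3 cm3 clt3
  have h4 := stabL_step_of_check (k := 15) rho [224, 11589, 1, 0] 1086 648 3 (nw_ok w4) (nw_img w4) cfix4 cm4 clt4
  have h6 : Nat.card ↥(stabL rho []) ≤ Nat.card Fi23 :=
    Nat.card_le_card_of_injective _ Subtype.val_injective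
  have h7 : 1 ≤ Nat.card ↥(stabL rho [1086, 224, 11589, 1, 0]) := Nat.card_pos
  rw [card_G] at h6
  omega

end Card

theorem stab_eq : Lib.PermNetOrbit.stabL rho [1, 0] = CC := by
  ext g
  have hz := el_sq .z
  have h1 : g ∈ Lib.PermNetOrbit.stabL rho [1, 0] ↔ rho g 1 = 1 ∧ rho g 0 = 0 := by
    constructor
    · intro h
      exact ⟨h 1 (by simp), h 0 (by simp)⟩
    · rintro ⟨h1, h2⟩ q hq
      simp only [List.mem_cons, List.not_mem_nil, or_false] at hq
      rcases hq with rfl | rfl
      · exact h1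
      · exact h2
  rw [h1, mem_CC, fix_iff g (by norm_num), fix_iff g (by norm_num), T0, T1]
  constructor
  · rintro ⟨h2, h3⟩
    refine ⟨h3, ?_⟩
    have h4 : el .j = el .z * (el .z * el .j * el .z) * el .z := by
      calc el .j = (el .z * el .z) * el .j * (el .z * el .z) := by rw [hz, one_mul, mul_one]
        _ = _ := by group
    rw [h4]
    exact (((show Commute g (el .z) from h3).mul_right (show Commute g _ from h2)).mul_right
      (show Commute g (el .z) from h3)).eq
  · rintro ⟨h2, h3⟩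
    refine ⟨?_, h2⟩
    exact (((show Commute g (el .z) from h2).mul_right (show Commute g _ from h3)).mul_right
      (show Commute g (el .z) from h2)).eq

theorem card_CC : Nat.card ↥CC = 4585351680 := by
  rw [← stab_eq]
  exact card_stab

/-! ### `C(u) = ⟨u⟩ × CC` -/

theorem comm_of_rho {g : Fi23} (h0 : rho g 0 = 0) (h8 : rho g 8006 = 8006) : g ∈ CC :=
  mem_CC.2 ⟨comm_z h0, comm_j h8⟩

theorem uu_mem : uu ∈ centralizer ({uu} : Set Fi23) := mem_centralizer_singleton_iff.2 rfl

theorem exists_form {w : Fi23} (h : w ∈ centralizer ({uu} : Set Fi23)) : ∃ i : ℕ, ∃ c ∈ CC, w = uu ^ i * c := by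
  obtain ⟨i, h1, h2⟩ := LU0 (mem_centralizer_singleton_iff.1 h)
  exact ⟨i, _, comm_of_rho h1 h2, by group⟩

theorem order_uu : orderOf uu = 3 := by
  have : Fact (Nat.Prime 3) := ⟨Nat.prime_three⟩
  exact orderOf_eq_prime uu_pow uu_ne_one

theorem uu_notMem : uu ∉ CC := by
  intro h
  obtain ⟨h1, -⟩ := mem_CC.1 h
  have h2 := (fix_iff uu (p := 0) (by norm_num)).2 (by rw [T0]; exact h1)
  rw [rho_uu0] at h2
  exact absurd h2 (by norm_num)

theorem inf_eq : zpowers uu ⊓ CC = ⊥ := by
  have h3 : (Nat.card ↥(zpowers uu)).Prime := by rw [Nat.card_zpowers, order_uu]; norm_num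
  rcases (Nat.dvd_prime h3).1 (card_dvd_of_le (inf_le_left : zpowers uu ⊓ CC ≤ zpowers uu)) with h1 | h1
  · exact Subgroup.card_eq_one.1 h1
  · exfalso
    have h2 : zpowers uu ⊓ CC = zpowers uu := eq_of_le_of_card_ge inf_le_left h1.ge
    exact uu_notMem (by
      have h4 : uu ∈ zpowers uu ⊓ CC := by rw [h2]; exact mem_zpowers _
      exact h4.2)

/-- `CC` in `C(u)` -/
def CU : Subgroup ↥(centralizer ({uu} : Set Fi23)) := CC.subgroupOf _

instance normal_CU : CU.Normal := by
  refine ⟨fun n hn g => ?_⟩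
  obtain ⟨i, c, hc, hg⟩ := exists_form g.2
  have hn' : (n : Fi23) ∈ CC := hn
  change (g : Fi23) * n * (g : Fi23)⁻¹ ∈ CC
  have h1 : (uu ^ i) * (c * n * c⁻¹) * (uu ^ i)⁻¹ = c * n * c⁻¹ := by
    have h2 : c * n * c⁻¹ ∈ centralizer ({uu} : Set Fi23) := CC_le (mul_mem (mul_mem hc hn') (inv_mem hc))
    have h3 : Commute (uu ^ i) (c * n * c⁻¹) :=
      (show Commute uu _ from (mem_centralizer_singleton_iff.1 h2).symm).pow_left i
    rw [h3.eq, mul_inv_cancel_right]
  rw [hg]
  have h4 : uu ^ i * c * n * (uu ^ i * c)⁻¹ = (uu ^ i) * (c * n * c⁻¹) * (uu ^ i)⁻¹ := by group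
  rw [h4, h1]
  exact mul_mem (mul_mem hc hn') (inv_mem hc)

theorem solvable_quot : Group.IsSolvable (↥(centralizer ({uu} : Set Fi23)) ⧸ CU) := by
  apply Group.isSolvable_of_comm
  intro a b
  have key : ∀ a : ↥(centralizer ({uu} : Set Fi23)) ⧸ CU, ∃ i : ℕ, a = QuotientGroup.mk' CU (⟨uu, uu_mem⟩ ^ i) := by
    intro a
    obtain ⟨a, rfl⟩ := QuotientGroup.mk'_surjective CU a
    obtain ⟨i, c, hc, ha⟩ := exists_form a.2
    refine ⟨i, ?_⟩
    symm
    apply (QuotientGroup.eq).2
    change ((⟨uu, uu_mem⟩ ^ i : ↥(centralizer ({uu} : Set Fi23)))⁻¹ * a : ↥(centralizer ({uu} : Set Fi23))).1 ∈ CC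
    have h1 : (((⟨uu, uu_mem⟩ ^ i : ↥(centralizer ({uu} : Set Fi23)))⁻¹ * a :
        ↥(centralizer ({uu} : Set Fi23)))).1 = (uu ^ i)⁻¹ * a := rfl
    rw [h1, ha, inv_mul_cancel_left]
    exact hc
  obtain ⟨i, rfl⟩ := key a
  obtain ⟨j, rfl⟩ := key b
  rw [← map_mul, ← map_mul, ← pow_add, ← pow_add, add_comm]

/-! ### `CC ≅ PΩ₇(3)` -/

open Cfsg.Agent.Fischer.Derived Cfsg.Agent.Fischer.Y322

/-- the letters of the nodes -/
def lt8 : Fin 8 → Lt := ![.f, .e, .d, .c, .b, .a, .h, .i]

def s8 (k : Fin 8) : Fi23 := el (lt8 k)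

def g8 : Fin 8 → Spor.Fi23.Gen := ![.f, .e, .d, .c, .b, .a, .h, .i]

theorem s8_eq (k : Fin 8) : s8 k = gen (g8 k) := by
  fin_cases k <;> rfl

theorem lab_eq : ∀ i j : Fin 8, Cfsg.Spor.coxLabel Cfsg.Spor.Fi23.edges (g8 i) (g8 j) = lab i j := by decide

theorem s8_liftable : M8.IsLiftable s8 := by
  intro i j
  rw [M8_apply, s8_eq, s8_eq, ← lab_eq]
  exact Fischer.Fi23Final.gen_rel _ _

theorem ev_s8 (w : List (Fin 8)) : ev s8 w = elw (w.map lt8) := by
  rw [ev, elw, List.map_map]
  rfl

theorem chk_spider : checkEq 15 (ntw ((List.replicate 10 (spider.map lt8)).flatten)) (ntw []) = true := by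
  decide +kernel

theorem chk_e7 : checkEq 15 (ntw ((List.replicate 9 (e7w.map lt8)).flatten)) (ntw []) = true := by
  decide +kernel

theorem elw_replicate (w : List Lt) (n : ℕ) : elw (List.replicate n w).flatten = elw w ^ n := by
  induction n with
  | zero => rw [List.replicate_zero, List.flatten_nil, elw_nil, pow_zero]
  | succ n ih => rw [List.replicate_succ, List.flatten_cons, elw_append, ih, pow_succ']

theorem s8_spider : ev s8 spider ^ 10 = 1 := by
  rw [ev_s8, ← elw_replicate]
  exact elw_eq_of_checkEq chk_spider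

theorem s8_e7 : ev s8 e7w ^ 9 = 1 := by
  rw [ev_s8, ← elw_replicate]
  exact elw_eq_of_checkEq chk_e7

/-- `H8 → Fi23` -/
noncomputable def l8 : H8 →* Fi23 := lift s8_liftable s8_spider s8_e7

theorem l8_inj : Function.Injective l8 := by
  apply Fischer.Y322Iso.injective_of_ne
  refine ⟨x8 0, ?_⟩
  have h1 : l8 (x8 0) = s8 0 := lift_x8 _ _ _ _
  rw [h1, s8_eq]
  intro h
  have h2 := br .f .g (by decide)
  change gen .f = 1 at h
  rw [h, one_mul, mul_one, Fischer.Fi23Final.gen_sq] at h2
  -- `gen g = 1`, so `gen j = 1`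
  have h4 := br .g .j (by decide)
  rw [h2, one_mul, mul_one, Fischer.Fi23Final.gen_sq] at h4
  have h5 := Fischer.Fi23Class.z0_ncomm
  apply h5
  rw [h4, mul_one, one_mul]

theorem range_le : l8.range ≤ CC := by
  unfold l8
  rw [range_lift, closure_le]
  rintro _ ⟨k, rfl⟩
  have h1 : lt8 k ≠ .z ∧ lt8 k ≠ .j ∧ lt8 k ≠ .g := by
    fin_cases k <;> decide
  exact mem_CC.2 ⟨(z_comm_el _ h1.2.1).symm, (j_comm_el _ h1.1 h1.2.2).symm⟩

theorem range_eq : l8.range = CC := by
  apply eq_of_le_of_card_ge range_le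
  rw [card_CC, ← Nat.card_congr (MonoidHom.ofInjective l8_inj).toEquiv, Fischer.Y322Iso.card_H8]

/-- `CC ≅ H8` -/
noncomputable def eH : H8 ≃* ↥CC := (MonoidHom.ofInjective l8_inj).trans (MulEquiv.subgroupCongr range_eq)

/-- `C(z0, j) ≅ PΩ₇(3)` -/
noncomputable def eO : ↥CC ≃* POmega (ZMod 3) (quadFormOdd 3 (ZMod 3)) := eH.symm.trans Fischer.Y322Iso.equiv

theorem simple_CC : IsSimpleGroup ↥CC := by
  have := Fischer.Y322Iso.simple_H8
  exact eH.symm.isSimpleGroup

theorem card_C : Nat.card ↥(centralizer ({uu} : Set Fi23)) = 13756055040 := by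
  have h1 : zpowers uu ⊔ CC = centralizer ({uu} : Set Fi23) := by
    apply le_antisymm
    · exact sup_le (zpowers_le.2 uu_mem) CC_le
    · intro w hw
      obtain ⟨i, c, hc, hw'⟩ := exists_form hw
      rw [hw']
      exact mul_mem_sup (pow_mem (mem_zpowers uu) i) hc
  rw [← h1, card_sup_of_commute _ _ ?_ inf_eq, Nat.card_zpowers, order_uu, card_CC]
  intro a ha c hc
  obtain ⟨k, rfl⟩ := mem_zpowers_iff.1 ha
  exact (show Commute uu c from (mem_centralizer_singleton_iff.1 (CC_le hc)).symm).zpow_left k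

end Cfsg.Agent.LThreeFi23

private theorem dce_45683875e7da : _root_.True := by
  try have : _root_.True := by simp only [_root_.Cfsg.Agent.LThreeFi23.elw.eq_1]
  exact _root_.True.intro
end

-- part: LThreeFi23/CentUuComp
section
set_option linter.all false
open scoped Cfsg.Agent.FastGrp

/-!
# `Comps 3 C(u)` for `u = z0 j` in `Fi23` (helper51)
-/

set_option autoImplicit false
set_option linter.constructorNameAsVariable false

namespace Cfsg.Agent.LThreeFi23

open Subgroup Cfsg Cfsg.Agent.SignalizersComponents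
open Cfsg.Spor (Fi23)

universe u

theorem center_bot_of_simple {X : Type u} [Group X] (hs : IsSimpleGroup X) (hn : ¬ IsMulCommutative X) :
    center X = ⊥ := by
  rcases (inferInstance : (center X).Normal).eq_bot_or_eq_top with h | h
  · exact h
  · exact absurd ⟨⟨fun a b => (mem_center_iff.1 (by rw [h]; exact mem_top b) a)⟩⟩ hn

theorem quasi_of_simple {X : Type u} [Group X] (hs : IsSimpleGroup X) (hn : ¬ IsMulCommutative X) :
    IsQuasisimple X := by
  have hz := center_bot_of_simple hs hn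
  have hperf : Group.IsPerfect X := by
    rw [Group.isPerfect_def]
    rcases (inferInstance : (commutator X).Normal).eq_bot_or_eq_top with h | h
    · exfalso
      apply hn
      rw [commutator_eq_bot_iff_center_eq_top] at h
      rw [hz] at h
      exact absurd h bot_ne_top
    · exact h
  exact ⟨hperf, ((QuotientGroup.quotientMulEquivOfEq hz).trans QuotientGroup.quotientBot).isSimpleGroup⟩

theorem inC_of_simple {p : ℕ} (hp2 : p ≠ 2) {X : Type u} [Group X] (hs : IsSimpleGroup X)
    (hn : ¬ IsMulCommutative X) (h : IsCpSimple p X) : InC p X := by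
  have hz := center_bot_of_simple hs hn
  refine ⟨quasi_of_simple hs hn, by rw [hz]; exact IsPGroup.of_bot,
    (CpQuot.Congr.isCpSimple_iff ((QuotientGroup.quotientMulEquivOfEq hz).trans QuotientGroup.quotientBot) p).2 h, ?_⟩
  rintro (⟨h2, -⟩ | ⟨-, h3, -⟩)
  · exact hp2 h2
  · rw [hz, Subgroup.card_bot] at h3
    omega

theorem cp_CC : IsCpSimple 3 ↥CC :=
  Or.inl (Or.inl (Or.inr (Or.inr (Or.inr (Or.inl ⟨ZMod 3, inferInstance, inferInstance, inferInstance, 3, le_rfl,
    by rw [ZMod.card]; decide, ⟨eO⟩⟩)))))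

theorem nc_CC : ¬ IsMulCommutative ↥CC := by
  intro h
  have hs := simple_CC
  have h1 : (Nat.card ↥CC).Prime := by
    let _ : CommGroup ↥CC := { (inferInstance : Group ↥CC) with mul_comm := fun a b => h.is_comm.comm a b }
    exact IsSimpleGroup.prime_card (α := ↥CC)
  rw [card_CC] at h1
  norm_num at h1

theorem inC_CC : InC 3 ↥CC := inC_of_simple (by norm_num) simple_CC nc_CC cp_CC

theorem inC_CU : InC 3 ↥CU :=
  (CpQuot.Congr.inC_iff (subgroupOfEquivOfLe CC_le) 3).2 inC_CC

theorem comps_uu : LThree.Comps 3 ↥(centralizer ({uu} : Set Fi23)) :=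
  LThree.Comps.of_normal Nat.prime_three CU inC_CU solvable_quot

/-- the centralizers of conjugate elements -/
noncomputable def centConj {G : Type u} [Group G] (g x : G) :
    ↥(centralizer ({x} : Set G)) ≃* ↥(centralizer ({g * x * g⁻¹} : Set G)) :=
  ((centralizer ({x} : Set G)).equivMapOfInjective (MulAut.conj g).toMonoidHom (MulAut.conj g).injective).trans
    (MulEquiv.subgroupCongr (by
      ext y
      constructor
      · rintro ⟨c, hc, rfl⟩
        rw [SetLike.mem_coe, mem_centralizer_singleton_iff] at hc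
        rw [mem_centralizer_singleton_iff]
        change g * c * g⁻¹ * (g * x * g⁻¹) = g * x * g⁻¹ * (g * c * g⁻¹)
        calc g * c * g⁻¹ * (g * x * g⁻¹) = g * (c * x) * g⁻¹ := by group
          _ = g * (x * c) * g⁻¹ := by rw [hc]
          _ = _ := by group
      · intro hy
        rw [mem_centralizer_singleton_iff] at hy
        refine ⟨g⁻¹ * y * g, ?_, by change g * (g⁻¹ * y * g) * g⁻¹ = y; group⟩
        rw [SetLike.mem_coe, mem_centralizer_singleton_iff]
        calc g⁻¹ * y * g * x = g⁻¹ * (y * (g * x * g⁻¹)) * g := by group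
          _ = g⁻¹ * (g * x * g⁻¹ * y) * g := by rw [hy]
          _ = _ := by group))

theorem comps_of_conj {x : Fi23} (h : IsConj uu x) : LThree.Comps 3 ↥(centralizer ({x} : Set Fi23)) := by
  obtain ⟨g, rfl⟩ := isConj_iff.1 h
  exact comps_uu.congr (centConj g uu)

theorem card_C_of_conj {x : Fi23} (h : IsConj uu x) : Nat.card ↥(centralizer ({x} : Set Fi23)) = 13756055040 := by
  obtain ⟨g, rfl⟩ := isConj_iff.1 h
  rw [← Nat.card_congr (centConj g uu).toEquiv, card_C]

/-- the product of two noncommuting transpositions is conjugate to `u` -/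
theorem isConj_pair {p q : ℕ} (hp : p < 31671) (hq : q < 31671) (h : ¬ Com p q) : IsConj uu (T p * T q) := by
  obtain ⟨g, hg, hg'⟩ := pair_trans (p := 0) (q := 8006) (by norm_num) (by norm_num) hp hq
    (ncom_pt (x := .z) rfl m_0) h
  rw [isConj_iff]
  refine ⟨g, ?_⟩
  rw [← hg, ← hg', T_act g (by norm_num), T_act g (by norm_num), T0, T8006]
  unfold uu
  group

end Cfsg.Agent.LThreeFi23
end
end
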