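import Cfsg.Agent.LThreeFi23.TwoCl
import Cfsg.Agent.LThreeFi24.Twin
import Cfsg.Agent.LThreeFi24.Red24
import Cfsg.Agent.LThreeFi23.CentUuComp
import Cfsg.Agent.SigTab.RestList_m3
import Cfsg.Agent.FastGrp
import Cfsg.Agent.Prune
set_option linter.all false
open scoped Cfsg.Agent.FastGrp

-- merged: Cfsg.Agent.LThreeFi23.TwinChk
section

/-!
# Kernel checks: the twins `0` and `798` among the transpositions commuting with `x = (a b)(h i)` (helper48)
-/

set_option autoImplicit false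
set_option linter.constructorNameAsVariable false
set_option maxRecDepth 100000

namespace Cfsg.Agent.LThreeFi23

open Subgroup Cfsg Cfsg.Agent.Lib.PermNet Cfsg.Agent.Fischer.Fi23Hom
open Cfsg.Spor (Fi23)

/-- the path from `0` to `798` -/
def p798 : List Lt := [.j, .g, .f, .e, .c, .d, .h, .i, .b, .c, .d, .h, .a, .b, .c, .d, .e, .f, .g, .j]
/-- the transposition `798` -/
def w798 : List Lt := [.j, .g, .f, .e, .c, .d, .h, .i, .b, .c, .d, .h, .a, .b, .c, .d, .e, .f, .g, .j, .z,
  .j, .g, .f, .e, .d, .c, .b, .a, .h, .d, .c, .b, .i, .h, .d, .c, .e, .f, .g, .j]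

theorem p798_pt : Nat.beq (ptw p798 0) 798 = true := by decide +kernel

theorem e_tw1 : pchk [([.a, .b, .h, .i], false), ([.z], false), (w798, true)] [0] = true := by decide +kernel

theorem e_tw2 : pchk [([.a, .b, .h, .i], false), (w798, false), ([.z], true)] [798] = true := by decide +kernel

theorem xC_798 : Nat.beq (ptw [.a, .b, .h, .i] 798) 798 = true := by decide +kernel

theorem xC_mv : Nat.beq (ptw [.a, .b, .h, .i] 11589) 11589 = false := by decide +kernel

/-- words in `z, j, g, f, e`, points `0` or `798`, images -/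
def L22 : List (List Lt × ℕ × ℕ) :=
  [([], 0, 0), ([.j], 0, 1), ([.z, .j], 0, 8006), ([.g, .j], 0, 2), ([.g, .z, .j], 0, 6531), ([.f, .g, .j], 0, 3),
   ([.j, .g, .z, .j], 0, 8005), ([.f, .g, .z, .j], 0, 5268), ([.e, .f, .g, .j], 0, 4), ([.f, .j, .g, .z, .j], 0, 6529),
   ([.e, .f, .g, .z, .j], 0, 4150), ([.g, .f, .j, .g, .z, .j], 0, 8002), ([.e, .f, .j, .g, .z, .j], 0, 5265),
   ([.e, .g, .f, .j, .g, .z, .j], 0, 6524), ([.f, .e, .g, .f, .j, .g, .z, .j], 0, 8001),
   ([], 798, 798), ([.z], 798, 3474), ([.j], 798, 558), ([.j, .z], 798, 2628), ([.z, .j], 798, 6551),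
   ([.g, .j], 798, 384), ([.z, .j, .z], 798, 5297)]

/-- the images are correct -/
noncomputable def chk22 (l : List (List Lt × ℕ × ℕ)) : Bool :=
  List.rec (motive := fun _ => Bool) true (fun c _ ih => and (Nat.beq (ptw c.1 c.2.1) c.2.2) ih) l

theorem chk22_spec : ∀ {l : List (List Lt × ℕ × ℕ)}, chk22 l = true → ∀ c ∈ l, ptw c.1 c.2.1 = c.2.2 := by
  intro l
  induction l with
  | nil => intro _ c hc; exact absurd hc (by simp)
  | cons d l ih =>
    intro h c hc
    have h' : and (Nat.beq (ptw d.1 d.2.1) d.2.2) (chk22 l) = true := h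
    rw [Bool.and_eq_true] at h'
    rcases List.mem_cons.1 hc with rfl | hc
    · exact Nat.eq_of_beq_eq_true h'.1
    · exact ih h'.2 c hc

theorem L22_chk : chk22 L22 = true := by decide +kernel

theorem L22_nodup : (L22.map fun c => c.2.2).Nodup := by decide +kernel

theorem L22_len : (L22.map fun c => c.2.2).length = 22 := by decide +kernel

theorem L22_start : (L22.all fun c => decide (c.2.1 = 0 ∨ c.2.1 = 798)) = true := by decide +kernel

theorem L22_comm : (L22.all fun c => c.1.all fun x => [Lt.a, .b, .h, .i].all fun y => !adjL x y) = true := by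
  decide +kernel

theorem L22_lt : (L22.all fun c => decide (c.2.2 < 31671)) = true := by decide +kernel

end Cfsg.Agent.LThreeFi23

end

-- merged: Cfsg.Agent.LThreeFi23.TwinC
section

/-!
# Elements of prime order `r ≥ 5` commuting with `x = (a b)(h i)` and the products of twins (helper48)
-/

set_option autoImplicit false
set_option linter.constructorNameAsVariable false

namespace Cfsg.Agent.LThreeFi23

open Subgroup Cfsg Cfsg.Agent.Lib.PermNet Cfsg.Agent.Fischer.Fi23Hom
open Cfsg.Spor (Fi23)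

theorem xC_eq : elw [.a, .b, .h, .i] = xC := w_abhi

theorem xC_pow : xC ^ 3 = 1 := by
  unfold xC
  rw [u_comm.mul_pow, u1_pow, u2_pow, one_mul]

theorem xC_ne : xC ≠ 1 := by
  rw [← xC_eq]
  exact ne_one_of_pt xC_mv

theorem Tel_xC : Tel xC := Tel.of_three xC_pow

/-- back from `Y^i` to `Y` -/
theorem exists_back {G : Type*} [Group G] {p : ℕ} (hp : p.Prime) {Y : G} (hY : Y ^ p = 1) {i : ℤ}
    (h1 : Y ^ i ≠ 1) : ∃ a : ℤ, Y = (Y ^ i) ^ a := by
  have h2 : ¬ (p : ℤ) ∣ i := by
    rintro ⟨k, rfl⟩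
    rw [zpow_mul, zpow_natCast, hY, one_zpow] at h1
    exact h1 rfl
  have h3 : IsCoprime i (p : ℤ) := ((Nat.prime_iff_prime_int.1 hp).coprime_iff_not_dvd.2 h2).symm
  obtain ⟨a, b, hab⟩ := h3
  refine ⟨a, ?_⟩
  rw [← zpow_mul]
  have h5 : i * a = 1 - p * b := by linarith [mul_comm i a, mul_comm b (p : ℤ)]
  rw [h5, zpow_sub, zpow_one, zpow_mul, zpow_natCast, hY, one_zpow, inv_one, mul_one]

theorem rho_zpow_fix {w : Fi23} {p : ℕ} (h : rho w p = p) (i : ℤ) : rho (w ^ i) p = p := by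
  rw [map_zpow]
  exact Equiv.Perm.zpow_apply_eq_self_of_apply_eq_self h i

/-- fixed points of an element conjugate to a power of `Y` -/
theorem fix_image {r : ℕ} (hr : r.Prime) {Y : Fi23} (hY : Y ^ r = 1) {y g : Fi23} {i : ℤ} (hy1 : y ≠ 1)
    (hg : g * y * g⁻¹ = Y ^ i) {p : ℕ} (hp : rho y p = p) : rho Y (rho g p) = rho g p := by
  have h1 : Y ^ i ≠ 1 := by rw [← hg]; exact conj_ne hy1 g
  obtain ⟨a, ha⟩ := exists_back hr hY h1
  have h2 : rho (Y ^ i) (rho g p) = rho g p := by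
    rw [← hg, map_mul, map_mul, Equiv.Perm.mul_apply, Equiv.Perm.mul_apply, map_inv,
      Equiv.Perm.inv_eq_iff_eq.2 rfl, hp]
  rw [ha]
  exact rho_zpow_fix h2 a

/-- more fixed points than `Y` has -/
theorem count_contra {L l : List ℕ} (hL : L.Nodup) (hlen : l.length < L.length) (hlt : ∀ p ∈ L, p < 31671)
    {Y : List Lt} (hl : pchk [(Y, false)] l = true) {r : ℕ} (hr : r.Prime) (hY : elw Y ^ r = 1) {y g : Fi23} {i : ℤ}
    (hy1 : y ≠ 1) (hg : g * y * g⁻¹ = elw Y ^ i) (hfix : ∀ p ∈ L, rho y p = p) : False := by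
  have h1 : (L.map (rho g)).Nodup := hL.map (rho g).injective
  have h2 : L.map (rho g) ⊆ l := by
    intro q hq
    obtain ⟨p, hp, rfl⟩ := List.mem_map.1 hq
    apply (pchk_mem hl _).1
    refine ⟨act_lt g (hlt p hp), ?_⟩
    rw [pat_cons]
    refine ⟨⟨fun h3 => absurd (fix_image hr hY hy1 hg (hfix p hp)) h3, fun h3 => absurd h3 Bool.false_ne_true⟩,
      fun c hc => absurd hc (by simp)⟩
  have h3 := (h1.subperm h2).length_le
  rw [List.length_map] at h3
  omega

/-- an element of prime order at least 5 commuting with `T p * T q` fixes `p` and `q` -/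
theorem fix_of_comm_pair {p q : ℕ} (hp : p < 31671) (hq : q < 31671) (h : ¬ Com p q) {y : Fi23}
    (hy : y * (T p * T q) = (T p * T q) * y) {r : ℕ} (hr : r.Prime) (hr5 : 5 ≤ r) (hyr : y ^ r = 1) :
    rho y p = p ∧ rho y q = q := by
  obtain ⟨i, h1, h2⟩ := LU hp hq h hy
  have hv : (T p * T q) ^ 3 = 1 := three_of_braid (T_sq hp) (T_sq hq) (braid hp hq h)
  have hc : Commute ((T p * T q) ^ i)⁻¹ y := ((show Commute (T p * T q) y from hy.symm).pow_left i).inv_left
  have h3 : (((T p * T q) ^ i)⁻¹ * y) ^ 3 = y ^ 3 := by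
    rw [hc.mul_pow, inv_pow, ← pow_mul, mul_comm, pow_mul, hv, one_pow, inv_one, one_mul]
  have hcop : Nat.Coprime 3 r := (Nat.coprime_primes Nat.prime_three hr).2 (by omega)
  have hb : ∃ m : ℕ, (y ^ 3) ^ m = y := by
    obtain ⟨m, hm⟩ := Nat.exists_mul_mod_eq_one_of_coprime hcop (by omega)
    refine ⟨m, ?_⟩
    rw [← pow_mul, ← Nat.mod_add_div (3 * m) r, hm.2, pow_add, pow_one, pow_mul, hyr, one_pow, mul_one]
  obtain ⟨m, hm⟩ := hb
  have key : ∀ s : ℕ, rho (((T p * T q) ^ i)⁻¹ * y) s = s → rho y s = s := by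
    intro s hs
    have h4 := rho_pow_fix hs 3
    rw [h3] at h4
    have h5 := rho_pow_fix h4 m
    rwa [hm] at h5
  exact ⟨key p h1, key q h2⟩

/-- **no element of prime order at least 5 commutes with `xC` and fixes the 22 points** -/
theorem contra22 {y : Fi23} {r : ℕ} (hr : r.Prime) (hr5 : 5 ≤ r) (hyr : y ^ r = 1) (hy1 : y ≠ 1)
    (hx : xC * y = y * xC) (hfix : ∀ c ∈ L22, rho y c.2.2 = c.2.2) : False := by
  have hlt : ∀ p ∈ L22.map (fun c => c.2.2), p < 31671 := by
    intro p hp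
    obtain ⟨c, hc, rfl⟩ := List.mem_map.1 hp
    exact of_decide_eq_true ((List.all_eq_true.1 L22_lt) c hc)
  have hfix' : ∀ p ∈ L22.map (fun c => c.2.2), rho y p = p := by
    intro p hp
    obtain ⟨c, hc, rfl⟩ := List.mem_map.1 hp
    exact hfix c hc
  rcases prime_cases hr hr5 (prime_dvd_card hr hyr hy1) with rfl | rfl | rfl | rfl | rfl | rfl
  · obtain ⟨g, i, hg⟩ := conj_five hyr
    exact count_contra L22_nodup (by rw [L22_len]; decide) hlt e_y5 hr pow5 hy1 hg hfix'
  · obtain ⟨g, i, hg⟩ := conj_seven hyr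
    exact count_contra L22_nodup (by rw [L22_len]; decide) hlt e_y7 hr pow7 hy1 hg hfix'
  · obtain ⟨g, i, hg⟩ := conj_eleven hyr
    exact count_contra L22_nodup (by rw [L22_len]; decide) hlt fix11 hr pow11 hy1 hg hfix'
  · obtain ⟨g, i, hg⟩ := conj_thirteen hyr
    exact count_contra L22_nodup (by rw [L22_len]; decide) hlt e_y13 hr pow13 hy1 hg hfix'
  · obtain ⟨g, i, hg⟩ := conj_seventeen hyr
    exact absurd (r17 (conj_Tel Tel_xC g) (comm_of_conj_zpow hr pow17 hy1 hx hg)) (conj_ne xC_ne g)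
  · obtain ⟨g, i, hg⟩ := conj_twentythree hyr
    exact absurd (r23 (conj_Tel Tel_xC g) (comm_of_conj_zpow hr pow23 hy1 hx hg)) (conj_ne xC_ne g)

theorem rho_p798 : rho (elw p798) 0 = 798 := by
  rw [← ptw_eq]
  exact Nat.eq_of_beq_eq_true p798_pt

theorem w798_eq : w798 = p798 ++ .z :: p798.reverse := by decide +kernel

theorem T798 : T 798 = elw w798 := by
  rw [← rho_p798, T_act _ (by norm_num), T0, w798_eq, elw_append, elw_cons, elw_reverse, mul_assoc]

theorem xC_fix798 : rho xC 798 = 798 := by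
  rw [← xC_eq, ← ptw_eq]
  exact Nat.eq_of_beq_eq_true xC_798

theorem xC_fix0 : rho xC 0 = 0 := by
  rw [← xC_eq]
  exact comm_of_el (x := .z) rfl (comm_word_let _ _ (by decide +kernel))

end Cfsg.Agent.LThreeFi23

end

-- merged: Cfsg.Agent.LThreeFi23.TwinD
section

/-!
# The centralizer of `x = (a b)(h i)` has no component (helper48)
-/

set_option autoImplicit false
set_option linter.constructorNameAsVariable false

namespace Cfsg.Agent.LThreeFi23

open Subgroup Cfsg Cfsg.Agent.Lib.PermNet Cfsg.Agent.Fischer.Fi23Hom Cfsg.Agent.SignalizersComponents Cfsg.Agent.LThree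
  Cfsg.Agent.LThreeFi24.Comp Cfsg.Agent.LThreeFi24.Twin
open Cfsg.Spor (Fi23)

/-- the centralizer of `xC` -/
abbrev XC : Type := ↥(centralizer ({xC} : Set Fi23))

/-- the transpositions commuting with `xC` -/
def DX : Set XC := {t | ∃ p < 31671, (t : Fi23) = T p}

theorem dX_tset : TSet DX where
  sq := by
    rintro t ⟨p, hp, ht⟩
    apply Subtype.ext
    rw [Subgroup.coe_mul, ht, T_sq hp]
    rfl
  cj := by
    rintro t ⟨p, hp, ht⟩ g
    refine ⟨rho (g : Fi23) p, act_lt _ hp, ?_⟩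
    rw [Subgroup.coe_mul, Subgroup.coe_mul, Subgroup.coe_inv, ht, T_act _ hp]
  tri := by
    rintro t ⟨p, hp, ht⟩ s ⟨q, hq, hs⟩
    by_cases h : Com p q
    · left
      apply Subtype.ext
      rw [Subgroup.coe_mul, Subgroup.coe_mul, ht, hs]
      exact (com_iff hq).1 h
    · right
      apply Subtype.ext
      rw [Subgroup.coe_mul, Subgroup.coe_mul, Subgroup.coe_mul, Subgroup.coe_mul, ht, hs]
      exact braid hp hq h

theorem T0_mem : T 0 ∈ centralizer ({xC} : Set Fi23) := by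
  rw [mem_centralizer_singleton_iff]
  exact ((fix_iff xC (by norm_num)).1 xC_fix0).symm

theorem T798_mem : T 798 ∈ centralizer ({xC} : Set Fi23) := by
  rw [mem_centralizer_singleton_iff]
  exact ((fix_iff xC (by norm_num)).1 xC_fix798).symm

/-- the transposition `0` -/
noncomputable def t0 : XC := ⟨T 0, T0_mem⟩
/-- the transposition `798` -/
noncomputable def t1 : XC := ⟨T 798, T798_mem⟩

theorem t0_mem : t0 ∈ DX := ⟨0, by norm_num, rfl⟩
theorem t1_mem : t1 ∈ DX := ⟨798, by norm_num, rfl⟩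

theorem commute_iff {s t : XC} {p q : ℕ} (hp : (s : Fi23) = T p) (hq : (t : Fi23) = T q) (hq' : q < 31671) :
    Commute s t ↔ Com p q := by
  rw [com_iff hq', ← hp, ← hq, ← Subgroup.coe_mul, ← Subgroup.coe_mul, Subtype.coe_inj]
  exact Iff.rfl

theorem com_798 (p : ℕ) : Com 798 p ↔ rho (elw w798) p = p := by
  unfold Com
  rw [T798]

theorem com_0 (p : ℕ) : Com 0 p ↔ rho (elw [.z]) p = p := by
  unfold Com
  rw [T0, elw_one]

theorem pat3 {v1 v2 v3 : List Lt} {l : List ℕ} (h : pchk [(v1, false), (v2, false), (v3, true)] l = true) (p : ℕ) :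
    (p < 31671 ∧ rho (elw v1) p = p ∧ rho (elw v2) p = p ∧ rho (elw v3) p ≠ p) ↔ p ∈ l := by
  rw [← pchk_mem h p, pat_cons, pat_cons, pat_cons]
  constructor
  · rintro ⟨h0, h1, h2, h3⟩
    exact ⟨h0, ⟨fun h => absurd h1 h, fun h => absurd h Bool.false_ne_true⟩,
      ⟨fun h => absurd h2 h, fun h => absurd h Bool.false_ne_true⟩, ⟨fun _ => rfl, fun _ => h3⟩,
      fun c hc => absurd hc (by simp)⟩
  · rintro ⟨h0, h1, h2, h3, -⟩
    refine ⟨h0, ?_, ?_, h3.2 rfl⟩
    · by_contra h
      exact Bool.false_ne_true (h1.1 h)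
    · by_contra h
      exact Bool.false_ne_true (h2.1 h)

/-- the two lists of points -/
theorem mem_tw1 {p : ℕ} (hp : p < 31671) (h1 : rho xC p = p) (h2 : Com 0 p) (h3 : ¬ Com 798 p) : p = 0 := by
  rw [← xC_eq] at h1
  rw [com_0] at h2
  rw [com_798] at h3
  exact List.mem_singleton.1 ((pat3 e_tw1 p).1 ⟨hp, h1, h2, h3⟩)

theorem mem_tw2 {p : ℕ} (hp : p < 31671) (h1 : rho xC p = p) (h2 : Com 798 p) (h3 : ¬ Com 0 p) : p = 798 := by
  rw [← xC_eq] at h1
  rw [com_0] at h3
  rw [com_798] at h2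
  exact List.mem_singleton.1 ((pat3 e_tw2 p).1 ⟨hp, h1, h2, h3⟩)

theorem ncom_0_798 : ¬ Com 0 798 := by
  intro h1
  exact ((pat3 e_tw2 798).2 (List.mem_singleton.2 rfl)).2.2.2 ((com_0 798).1 h1)

theorem tw_t : Tw DX t0 t1 := by
  change Nb DX t0 = Nb DX t1
  ext f
  constructor
  · rintro ⟨⟨p, hp, hf⟩, hne, hc⟩
    have hfx : rho xC p = p := by
      rw [fix_iff _ hp, ← hf]
      exact (mem_centralizer_singleton_iff.1 f.2).symm
    have h1 : Com 0 p := (commute_iff rfl hf hp).1 hc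
    have h2 : Com 798 p := by
      by_contra h2
      have h3 := mem_tw1 hp hfx h1 h2
      apply hne
      apply Subtype.ext
      rw [hf, h3]
      rfl
    refine ⟨⟨p, hp, hf⟩, ?_, (commute_iff rfl hf hp).2 h2⟩
    rintro rfl
    exact ncom_0_798 ((commute_iff (s := t0) (t := t1) rfl rfl (by norm_num)).1 hc)
  · rintro ⟨⟨p, hp, hf⟩, hne, hc⟩
    have hfx : rho xC p = p := by
      rw [fix_iff _ hp, ← hf]
      exact (mem_centralizer_singleton_iff.1 f.2).symm
    have h1 : Com 798 p := (commute_iff rfl hf hp).1 hc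
    have h2 : Com 0 p := by
      by_contra h2
      have h3 := mem_tw2 hp hfx h1 h2
      apply hne
      apply Subtype.ext
      rw [hf, h3]
      rfl
    refine ⟨⟨p, hp, hf⟩, ?_, (commute_iff rfl hf hp).2 h2⟩
    rintro rfl
    exact ncom_0_798 ((commute_iff (s := t0) (t := t1) rfl rfl (by norm_num)).1 hc.symm)

/-- the normal 3-subgroup of the products of twins -/
def NX : Subgroup XC := Subgroup.closure (Pr DX)

theorem NX_normal : NX.Normal := normal_twins dX_tset

theorem NX_pgroup : IsPGroup 3 ↥NX := isPGroup_twins dX_tset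

theorem t_mem : t0 * t1 ∈ NX :=
  Subgroup.subset_closure ⟨t0, t0_mem, t1, t1_mem, tw_t, Tw.nc t0_mem t1_mem tw_t, rfl⟩

/-- **no element of prime order at least 5 of `C(xC)` centralizes `NX`** -/
theorem no_prime {r : ℕ} (hr : r.Prime) (hr5 : 5 ≤ r) {y : XC} (hy : orderOf y = r)
    (h : ∀ x ∈ NX, x * y = y * x) : False := by
  have hyr : (y : Fi23) ^ r = 1 := by
    rw [← Subgroup.coe_pow, ← hy, pow_orderOf_eq_one]
    rfl
  have hy1 : (y : Fi23) ≠ 1 := by
    intro h1
    have h2 : y = 1 := Subtype.ext h1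
    rw [h2, orderOf_one] at hy
    have := hr.one_lt
    omega
  refine contra22 hr hr5 hyr hy1 ?_ ?_
  · exact (mem_centralizer_singleton_iff.1 y.2).symm
  · intro c hc
    have hcomm : elw [.a, .b, .h, .i] * elw c.1 = elw c.1 * elw [.a, .b, .h, .i] := by
      have h1 := (List.all_eq_true.1 L22_comm) c hc
      exact (comm_words c.1 [.a, .b, .h, .i] h1).symm
    rw [xC_eq] at hcomm
    have hg : elw c.1 ∈ centralizer ({xC} : Set Fi23) := mem_centralizer_singleton_iff.2 hcomm.symm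
    have h2 : (⟨elw c.1, hg⟩ : XC) * (t0 * t1) * (⟨elw c.1, hg⟩ : XC)⁻¹ ∈ NX := NX_normal.conj_mem _ t_mem _
    have h3 := congrArg Subtype.val (h _ h2)
    rw [Subgroup.coe_mul, Subgroup.coe_mul, Subgroup.coe_mul, Subgroup.coe_mul, Subgroup.coe_inv, Subgroup.coe_mul] at h3
    have e1 : elw c.1 * (T 0 * T 798) * (elw c.1)⁻¹ = T (rho (elw c.1) 0) * T (rho (elw c.1) 798) := by
      rw [T_act _ (by norm_num), T_act _ (by norm_num)]
      group
    have h4 : (elw c.1 * (T 0 * T 798) * (elw c.1)⁻¹) * (y : Fi23) =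
        (y : Fi23) * (elw c.1 * (T 0 * T 798) * (elw c.1)⁻¹) := h3
    rw [e1] at h4
    have h5 := fix_of_comm_pair (p := rho (elw c.1) 0) (q := rho (elw c.1) 798) (act_lt _ (by norm_num))
      (act_lt _ (by norm_num)) (by rw [com_act _ (by norm_num)]; exact ncom_0_798) h4.symm hr hr5 hyr
    have h6 := chk22_spec L22_chk c hc
    have h7 := of_decide_eq_true ((List.all_eq_true.1 L22_start) c hc)
    rw [ptw_eq] at h6
    rw [← h6]
    rcases h7 with h7 | h7 <;> rw [h7]
    · exact h5.1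
    · exact h5.2

/-- **the centralizer of `xC` has no component modulo its `3'`-core** -/
theorem comps_xC : Comps 3 (↥(centralizer ({xC} : Set Fi23))) := by
  have hO := Lib.Cores.pPrimeCore_normal (G := XC) 3
  intro K hK
  have : Fact (Nat.Prime 3) := ⟨Nat.prime_three⟩
  exfalso
  obtain ⟨r, hr, hr5, y, hy, hc⟩ := LThreeFi24.CompB.exists_prime_comm (O := pPrimeCore 3 XC)
    (Lib.Cores.pPrimeCore_coprime (G := XC) 3) hK NX_pgroup
    (LThreeFi24.CompB.comm_of_normal' hK NX_normal NX_pgroup)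
  exact no_prime hr hr5 hy hc

end Cfsg.Agent.LThreeFi23

end

-- merged: Cfsg.Agent.LThreeFi23.Main
section

/-!
# `L₃(Fi23) ⊆ C₃` (row `Fi23` of S1806; helper48, with helper51's centralizer of `u`)
-/

set_option autoImplicit false

namespace Cfsg.Agent.LThreeFi23

open Subgroup Cfsg Cfsg.Agent.SignalizersComponents Cfsg.Agent.LThree
open Cfsg.Spor (Fi23)

universe u

/-- the centralizer of every element of order 3 of `Fi23` -/
theorem comps_all {x : Fi23} (hx : orderOf x = 3) : Comps 3 (↥(centralizer ({x} : Set Fi23))) := by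
  by_cases h : ∃ r : ℕ, r.Prime ∧ 5 ≤ r ∧ r ∣ Nat.card ↥(centralizer ({x} : Set Fi23))
  · obtain ⟨r, hr, hr5, hd⟩ := h
    have : Fact r.Prime := ⟨hr⟩
    obtain ⟨y, hy⟩ := exists_prime_orderOf_dvd_card' r hd
    have hyr : (y : Fi23) ^ r = 1 := by
      rw [← Subgroup.coe_pow, ← hy, pow_orderOf_eq_one]
      rfl
    have hy1 : (y : Fi23) ≠ 1 := by
      intro h1
      have h2 : y = 1 := Subtype.ext h1
      rw [h2, orderOf_one] at hy
      have := hr.one_lt
      omega
    have hx3 : x ^ 3 = 1 := by rw [← hx, pow_orderOf_eq_one]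
    have hx1 : x ≠ 1 := by
      intro h1
      rw [h1, orderOf_one] at hx
      omega
    rcases two_classes hr hr5 hyr hy1 (Tel.of_three hx3) hx1 (mem_centralizer_singleton_iff.1 y.2).symm with h | h
    · exact comps_of_conj h.symm
    · obtain ⟨g, rfl⟩ := isConj_iff.1 h.symm
      exact comps_xC.congr (centConj g xC)
  · apply Comps.of_solvable
    apply LThreeFi24.Comp.solvable_of_primes
    intro r hr hd
    by_contra h2
    have h3 : ¬ 5 ≤ r := fun h3 => h ⟨r, hr, h3, hd⟩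
    have h4 := hr.two_le
    have h5 : r = 4 := by omega
    subst h5
    revert hr
    decide

theorem lpAll_model : LpAll 3 Fi23 (InC 3) := lpAll_iff.2 fun _ hx => comps_all hx

/-- **`L₃(Fi23) ⊆ C₃`** -/
theorem lpAll {G : Type u} [Group G] (h : Spor.IsoFi23 G) : LpAll 3 G (InC 3) := by
  obtain ⟨e⟩ := h
  exact lpAll_of_equiv e.symm lpAll_model

/-- row `fi23` of `FiveC` -/
theorem cThree : SigTab.CThree.{u} (fun X _ => Spor.IsoFi23 X) :=
  fun _ _ _ h => lpoAll_of_lpAll (lpAll h)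

end Cfsg.Agent.LThreeFi23

end
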