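import Cfsg.Agent.LThreeFi23.Base
import Cfsg.Agent.Lib.PermNetOrbit
import Cfsg.Agent.Lib.PermNetPt
import Cfsg.Agent.Lib.PermNetFast
import Cfsg.Agent.Prune
set_option linter.all false
prune_inst 0x7f00000000000000000000000000000000000000000000000000000000000000000000000000000000000000000000000000000000000000000000000000000000000000000000000000000000000000003fffffffffffffffffffffffffffbeffbdffffffff
open scoped Cfsg.Agent.FastGrp

-- part: LThreeFi23/ChkA
section
-- merged: Cfsg.Agent.LThreeFi23.Tools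
section

/-!
# Tools for `LThreeFi23`: 3-elements fixing points, patterns, orbits, walks (helper48)
-/

set_option autoImplicit false
set_option linter.constructorNameAsVariable false
set_option exponentiation.threshold 5000

namespace Cfsg.Agent.LThreeFi23

open Subgroup Cfsg Cfsg.Agent.Lib.PermNet Cfsg.Agent.Lib.PermNetFix Cfsg.Agent.Lib.PermNetPat
open Cfsg.Agent.Fischer.Fi23Hom
open Cfsg.Agent.Lib.PermNetOrbit (sat sat_point_spec sat_spec WsOk)
open Cfsg.Spor (Fi23)

/-! ### 3-elements -/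

/-- `w` is a 3-element -/
def Tel {G : Type*} [Group G] (w : G) : Prop := ∃ n : ℕ, w ^ 3 ^ n = 1

section

variable {G : Type*} [Group G]

theorem Tel.one : Tel (1 : G) := ⟨0, one_pow _⟩

theorem Tel.inv {w : G} (h : Tel w) : Tel w⁻¹ := by
  obtain ⟨n, hn⟩ := h
  exact ⟨n, by rw [inv_pow, hn, inv_one]⟩

theorem Tel.pow {w : G} (h : Tel w) (k : ℕ) : Tel (w ^ k) := by
  obtain ⟨n, hn⟩ := h
  exact ⟨n, by rw [← pow_mul, mul_comm, pow_mul, hn, one_pow]⟩

theorem Tel.conj {w : G} (h : Tel w) (g : G) : Tel (g * w * g⁻¹) := by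
  obtain ⟨n, hn⟩ := h
  exact ⟨n, by rw [conj_pow, hn, mul_one, mul_inv_cancel]⟩

theorem Tel.mul {v w : G} (hv : Tel v) (hw : Tel w) (h : v * w = w * v) : Tel (v * w) := by
  obtain ⟨n, hn⟩ := hv
  obtain ⟨m, hm⟩ := hw
  refine ⟨n + m, ?_⟩
  rw [(show Commute v w from h).mul_pow, pow_add, pow_mul, hn, one_pow, one_mul, mul_comm, pow_mul, hm, one_pow]

theorem Tel.of_three {w : G} (h : w ^ 3 = 1) : Tel w := ⟨1, by rw [pow_one]; exact h⟩

/-- `w` is a power of `w ^ k`, `k` prime to 3 -/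
theorem Tel.exists_pow {w : G} (h : Tel w) {k : ℕ} (hk : k.Coprime 3) : ∃ m : ℕ, (w ^ k) ^ m = w := by
  obtain ⟨n, hn⟩ := h
  apply exists_pow_eq_self_of_coprime
  exact Nat.Coprime.coprime_dvd_right (orderOf_dvd_of_pow_eq_one hn) (Nat.Coprime.pow_right n hk)

end

theorem rho_pow_fix {w : Fi23} {p : ℕ} (h : rho w p = p) (m : ℕ) : rho (w ^ m) p = p := by
  induction m with
  | zero => rw [pow_zero, map_one]; rfl
  | succ m ih => rw [pow_succ, map_mul, Equiv.Perm.mul_apply, h, ih]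

theorem fix_of_pow {w : Fi23} (hw : Tel w) {k : ℕ} (hk : k.Coprime 3) {p : ℕ} (h : rho (w ^ k) p = p) :
    rho w p = p := by
  obtain ⟨m, hm⟩ := hw.exists_pow hk
  have := rho_pow_fix h m
  rwa [hm] at this

/-- a 3-element acting on a point like a commuting element of order prime to 3 fixes the point -/
theorem fix_of_comm {w y : Fi23} (hw : Tel w) (hc : w * y = y * w) {o : ℕ} (hy : y ^ o = 1) (ho : o.Coprime 3)
    {p : ℕ} (h : rho w p = rho y p) : rho w p = p := by
  have hc' : Commute y⁻¹ w := (show Commute y w from hc.symm).inv_left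
  have h1 : rho (y⁻¹ * w) p = p := by
    rw [map_mul, Equiv.Perm.mul_apply, h, map_inv, Equiv.Perm.inv_eq_iff_eq]
  have h2 := rho_pow_fix h1 o
  rw [hc'.mul_pow, inv_pow, hy, inv_one, one_mul] at h2
  exact fix_of_pow hw ho h2

theorem fix_of_pair {w : Fi23} (hw : Tel w) {p q : ℕ} (h1 : rho w p = p ∨ rho w p = q)
    (h2 : rho w q = p ∨ rho w q = q) : rho w p = p := by
  rcases h1 with h1 | h1
  · exact h1
  · apply fix_of_pow hw (k := 2) (by norm_num)
    rw [pow_two, map_mul, Equiv.Perm.mul_apply, h1]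
    rcases h2 with h2 | h2
    · exact h2
    · have h3 : p = q := (rho w).injective (h1.trans h2.symm)
      rw [h2, h3]

/-! ### Patterns -/

/-- the points below `n` -/
noncomputable def fullN (n : ℕ) : ℕ := Nat.sub (Nat.pow 2 n) 1

/-- all points -/
noncomputable def full : ℕ := fullN 31671

theorem testBit_fullN (n p : ℕ) : (fullN n).testBit p = true ↔ p < n := by
  change (2 ^ n - 1).testBit p = true ↔ _
  rw [Nat.testBit_two_pow_sub_one]
  simp

theorem testBit_full (p : ℕ) : full.testBit p = true ↔ p < 31671 := by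
  unfold full
  exact testBit_fullN _ _

/-- the points moved by the words `(w, true)` and fixed by the words `(w, false)` -/
noncomputable def pattern (cs : List (List Lt × Bool)) : ℕ :=
  List.rec (motive := fun _ => ℕ) full
    (fun w _ ih => seq ih fun x => seq (moved 15 (ntw w.1)) fun y =>
      Bool.rec (Nat.xor x (Nat.land x y)) (Nat.land x y) w.2) cs

theorem pattern_cons_true (w : List Lt) (cs : List (List Lt × Bool)) :
    pattern ((w, true) :: cs) = pattern cs &&& moved 15 (ntw w) := by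
  show seq (pattern cs) (fun x => seq (moved 15 (ntw w)) fun y => Nat.land x y) = _
  rw [seq_eq, seq_eq]
  rfl

theorem pattern_cons_false (w : List Lt) (cs : List (List Lt × Bool)) :
    pattern ((w, false) :: cs) = pattern cs ^^^ (pattern cs &&& moved 15 (ntw w)) := by
  show seq (pattern cs) (fun x => seq (moved 15 (ntw w)) fun y => Nat.xor x (Nat.land x y)) = _
  rw [seq_eq, seq_eq]
  rfl

/-- the meaning of a pattern -/
def Pat (cs : List (List Lt × Bool)) (p : ℕ) : Prop :=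
  ∀ c ∈ cs, (rho (elw c.1) p ≠ p ↔ c.2 = true)

theorem pat_cons (c : List Lt × Bool) (cs : List (List Lt × Bool)) (p : ℕ) :
    Pat (c :: cs) p ↔ (rho (elw c.1) p ≠ p ↔ c.2 = true) ∧ Pat cs p := by
  unfold Pat
  rw [List.forall_mem_cons]

theorem testBit_pattern (cs : List (List Lt × Bool)) (p : ℕ) :
    (pattern cs).testBit p = true ↔ p < 31671 ∧ Pat cs p := by
  induction cs with
  | nil =>
    change full.testBit p = true ↔ _
    rw [testBit_full]
    simp [Pat]
  | cons c cs ih =>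
    obtain ⟨w, b⟩ := c
    rw [pat_cons]
    cases b
    · rw [pattern_cons_false, Nat.testBit_xor, Nat.testBit_and]
      by_cases h : (pattern cs).testBit p = true
      · rw [h]
        obtain ⟨h1, h2⟩ := ih.1 h
        have h3 := testBit_moved (ntw_ok w) (p := p) (by omega)
        rw [rho_elw]
        cases h4 : (moved 15 (ntw w)).testBit p
        · rw [h4] at h3
          simp only [Bool.false_eq_true, ne_eq, false_iff, not_not] at h3
          simp [h1, h2, h3]
        · rw [h4] at h3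
          simp only [ne_eq, true_iff] at h3
          simp [h3]
      · rw [show (pattern cs).testBit p = false by simpa using h]
        simp only [Bool.false_and, Bool.xor_self, Bool.false_eq_true, false_iff]
        rintro ⟨h1, -, h2⟩
        exact h (ih.2 ⟨h1, h2⟩)
    · rw [pattern_cons_true, Nat.testBit_and, Bool.and_eq_true, ih]
      constructor
      · rintro ⟨⟨h1, h2⟩, h3⟩
        rw [testBit_moved (ntw_ok w) (by omega)] at h3
        rw [rho_elw]
        exact ⟨h1, by simpa using h3, h2⟩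
      · rintro ⟨h1, h2, h3⟩
        refine ⟨⟨h1, h3⟩, ?_⟩
        rw [testBit_moved (ntw_ok w) (by omega)]
        rw [rho_elw] at h2
        simpa using h2

/-- patterns are invariant under elements commuting with their words -/
theorem Pat.act {cs : List (List Lt × Bool)} {p : ℕ} (h : Pat cs p) {w : Fi23}
    (hw : ∀ c ∈ cs, w * elw c.1 = elw c.1 * w) : Pat cs (rho w p) := by
  intro c hc
  rw [← h c hc, ← Equiv.Perm.mul_apply, ← map_mul, ← hw c hc, map_mul, Equiv.Perm.mul_apply]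
  exact not_congr (rho w).injective.eq_iff

/-- the image of a point of a pattern `M` is in `M` -/
theorem pattern_act {M : ℕ} {cs : List (List Lt × Bool)} (hM : Nat.beq (pattern cs) M = true) {w : Fi23}
    (hw : ∀ c ∈ cs, w * elw c.1 = elw c.1 * w) {p : ℕ} (hp : M.testBit p = true) :
    M.testBit (rho w p) = true := by
  have h1 := Nat.eq_of_beq_eq_true hM
  rw [← h1, testBit_pattern] at hp ⊢
  exact ⟨act_lt w hp.1, hp.2.act hw⟩

/-- a pattern with only one point -/
theorem pattern_single {p : ℕ} {cs : List (List Lt × Bool)} (hM : Nat.beq (pattern cs) (Nat.pow 2 p) = true)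
    {w : Fi23} (hw : ∀ c ∈ cs, w * elw c.1 = elw c.1 * w) : rho w p = p := by
  have h1 := pattern_act hM hw (p := p) (by
    change (2 ^ p).testBit p = true
    rw [Nat.testBit_two_pow_self])
  change (2 ^ p).testBit _ = true at h1
  rw [Nat.testBit_two_pow] at h1
  exact (of_decide_eq_true h1).symm

/-! ### Orbits -/

/-- the network words of a list of words -/
noncomputable def ntws (ws : List (List Lt)) : List (List Net) :=
  List.rec (motive := fun _ => List (List Net)) [] (fun w _ ih => ntw w :: ih) ws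

theorem mem_ntws {ws : List (List Lt)} {u : List Net} (hu : u ∈ ntws ws) : ∃ w ∈ ws, ntw w = u := by
  induction ws with
  | nil => exact absurd hu (by simp [ntws])
  | cons w ws ih =>
    have h : u ∈ ntw w :: ntws ws := hu
    rcases List.mem_cons.1 h with rfl | h
    · exact ⟨w, List.mem_cons_self, rfl⟩
    · obtain ⟨v, hv, rfl⟩ := ih h
      exact ⟨v, List.mem_cons_of_mem _ hv, rfl⟩

theorem ntws_ok (ws : List (List Lt)) : WsOk (2 ^ 15) (ntws ws) := by
  intro u hu
  obtain ⟨w, _, rfl⟩ := mem_ntws hu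
  exact ntw_ok w

/-- part of the orbit of `b` under the words -/
noncomputable def orbM (ws : List (List Lt)) (b r : ℕ) : ℕ := sat (ntws ws) r (Nat.pow 2 b)

/-- transitivity -/
noncomputable def orbB (ws : List (List Lt)) (b r : ℕ) : Bool := Nat.beq (orbM ws b r) full

theorem orbB_spec {ws : List (List Lt)} {b r : ℕ} (h : orbB ws b r = true) : orbM ws b r = full :=
  Nat.eq_of_beq_eq_true h

/-- `M` without the point `p` of `M` -/
noncomputable def delPt (M p : ℕ) : ℕ := Nat.xor M (Nat.pow 2 p)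

theorem testBit_delPt (M : ℕ) {p q : ℕ} (hq : q ≠ p) : (delPt M p).testBit q = M.testBit q := by
  change (M ^^^ 2 ^ p).testBit q = _
  rw [Nat.testBit_xor, Nat.testBit_two_pow_of_ne (Ne.symm hq), Bool.xor_false]

/-- if `w` fixes `b` and commutes with the words, it fixes the orbit of `b` -/
theorem fix_orbit {w : Fi23} {ws : List (List Lt)} (hc : ∀ u ∈ ws, w * elw u = elw u * w) {b : ℕ}
    (hb : rho w b = b) {r p : ℕ} (hp : (orbM ws b r).testBit p = true) : rho w p = p := by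
  unfold orbM at hp
  obtain ⟨k, ⟨g, hg, rfl⟩, hk⟩ := sat_point_spec (K := (centralizer ({w} : Set Fi23)).map rho) (ntws_ok ws)
    (fun u hu => by
      obtain ⟨v, hv, rfl⟩ := mem_ntws hu
      exact ⟨elw v, mem_centralizer_singleton_iff.2 (hc v hv).symm, rho_elw v⟩) r hp
  rw [← hk]
  rw [SetLike.mem_coe, mem_centralizer_singleton_iff] at hg
  rw [← Equiv.Perm.mul_apply, ← map_mul, ← hg, map_mul, Equiv.Perm.mul_apply, hb]

theorem comm_of_fix_pt {w : Fi23} (h : ∀ x : Lt, rho w (pt x) = pt x) : w = 1 :=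
  eq_one_of_comm fun x => (fix_pt_iff w x).1 (h x)

/-- transitive orbits -/
theorem eq_one_of_orbit {w : Fi23} {ws : List (List Lt)} (hc : ∀ u ∈ ws, w * elw u = elw u * w) {b : ℕ}
    (hb : rho w b = b) {r : ℕ} (hs : orbB ws b r = true) : w = 1 := by
  apply comm_of_fix_pt
  intro x
  apply fix_orbit hc hb (r := r)
  rw [orbB_spec hs, testBit_full]
  exact pt_lt x

/-- `w` commutes with the transposition of a fixed point, given as a word -/
theorem comm_T_word {w : Fi23} {b : ℕ} (l : List Lt) (hl : Nat.beq (ptw l 0) b = true) (hb : b < 31671)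
    (h : rho w b = b) : w * elw (l ++ .z :: l.reverse) = elw (l ++ .z :: l.reverse) * w := by
  have h1 := Nat.eq_of_beq_eq_true hl
  rw [ptw_eq] at h1
  have h2 : elw (l ++ .z :: l.reverse) = T b := by
    rw [T_eq h1, elw_append, elw_cons, elw_reverse, mul_assoc]
    rfl
  rw [h2]
  exact (fix_iff w hb).1 h

/-! ### Images of points by bit planes -/

/-- the bit planes of a word -/
noncomputable def pls (w : List Net) : List ℕ :=
  [appWord w (plane 15 0), appWord w (plane 15 1), appWord w (plane 15 2), appWord w (plane 15 3),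
    appWord w (plane 15 4), appWord w (plane 15 5), appWord w (plane 15 6), appWord w (plane 15 7),
    appWord w (plane 15 8), appWord w (plane 15 9), appWord w (plane 15 10), appWord w (plane 15 11),
    appWord w (plane 15 12), appWord w (plane 15 13), appWord w (plane 15 14)]

/-- the number with the bits `m.testBit p`, `m` in the list -/
noncomputable def pimg (pl : List ℕ) (p : ℕ) : ℕ :=
  List.rec (motive := fun _ => ℕ) 0 (fun m _ ih => Nat.add (Nat.mul 2 ih) (Bool.rec 0 1 (tb m p))) pl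

theorem pimg_nil (p : ℕ) : pimg [] p = 0 := rfl

theorem pimg_cons (m : ℕ) (pl : List ℕ) (p : ℕ) :
    pimg (m :: pl) p = 2 * pimg pl p + (if m.testBit p = true then 1 else 0) := by
  show 2 * pimg pl p + (Bool.rec 0 1 (tb m p) : ℕ) = _
  rw [tb_eq]
  cases m.testBit p <;> rfl

theorem pimg_eq (q : ℕ) (pl : List ℕ) (p s : ℕ)
    (h : ∀ i (hi : i < pl.length), (pl[i]).testBit p = q.testBit (s + i)) :
    pimg pl p = (q / 2 ^ s) % 2 ^ pl.length := by
  induction pl generalizing s with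
  | nil => rw [pimg_nil, List.length_nil, pow_zero, Nat.mod_one]
  | cons m pl ih =>
    rw [pimg_cons, ih (s + 1) (fun i hi => by
      have := h (i + 1) (by rw [List.length_cons]; omega)
      rw [List.getElem_cons_succ] at this
      rw [this]
      congr 1
      omega)]
    have h0 := h 0 (by rw [List.length_cons]; omega)
    rw [List.getElem_cons_zero, Nat.add_zero] at h0
    rw [h0, List.length_cons, pow_succ 2 pl.length, mul_comm (2 ^ pl.length) 2, Nat.mod_mul, pow_succ,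
      ← Nat.div_div_eq_div_mul, Nat.testBit_eq_decide_div_mod_eq]
    have h2 := Nat.mod_two_eq_zero_or_one (q / 2 ^ s)
    rcases h2 with h2 | h2
    · rw [h2]
      simp
    · rw [h2]
      simp
      ring

theorem pimg_pls (w : List Net) (hw : WOk (2 ^ 15) w) {p : ℕ} (hp : p < 2 ^ 15) :
    pimg (pls w) p = wperm w p := by
  have hq := wperm_lt hw hp
  rw [pimg_eq (wperm w p) (pls w) p 0]
  · rw [pow_zero, Nat.div_one]
    exact Nat.mod_eq_of_lt hq
  · have key : ∀ i, i < 15 → (appWord w (plane 15 i)).testBit p = (wperm w p).testBit i := by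
      intro i hi
      rw [testBit_appWord hw, testBit_plane 15 i _ hq hi]
    intro i hi
    have hi' : i < 15 := hi
    rw [Nat.zero_add, ← key i hi']
    congr 1
    interval_cases i <;> rfl

/-! ### Walks -/

/-- trees of letters: first child, next sibling -/
inductive Tr : Type
  | o : Tr
  | n (x : Lt) (c s : Tr) : Tr

/-- compare the bits of `M` at the successive images of `q` with the list -/
noncomputable def fails (pl : List ℕ) (M : ℕ) (l : List Bool) : ℕ → Bool :=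
  List.rec (motive := fun _ => ℕ → Bool) (fun _ => false)
    (fun e _ ih q => Lib.PermNetPt.force (pimg pl q) fun q' =>
      Bool.rec (Bool.rec (ih q') true e) (Bool.rec true (ih q') e) (tb M q')) l

theorem fails_cons (pl : List ℕ) (M : ℕ) (e : Bool) (l : List Bool) (q : ℕ) :
    fails pl M (e :: l) q = if M.testBit (pimg pl q) = e then fails pl M l (pimg pl q) else true := by
  show Lib.PermNetPt.force (pimg pl q) (fun q' =>
      Bool.rec (motive := fun _ => Bool) (Bool.rec (motive := fun _ => Bool) (fails pl M l q') true e)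
        (Bool.rec (motive := fun _ => Bool) true (fails pl M l q') e) (tb M q')) = _
  rw [Lib.PermNetPt.force_eq, tb_eq]
  cases e <;> cases M.testBit (pimg pl q) <;> rfl

/-- the points met by a walk in the tree where the test fails -/
noncomputable def walk (pl : List ℕ) (l : List Bool) (t : Tr) : ℕ → ℕ → ℕ :=
  Tr.rec (motive := fun _ => ℕ → ℕ → ℕ) (fun _ _ => 0)
    (fun x _ _ ihc ihs p M =>
      Nat.lor (Lib.PermNetPt.force (pimg (pls [nt x]) p) fun p' => seq ((nt x).app M) fun M' =>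
        Nat.lor (Bool.rec 0 (Nat.pow 2 p') (fails pl M' l p')) (ihc p' M')) (ihs p M)) t

theorem walk_o (pl : List ℕ) (l : List Bool) (p M : ℕ) : walk pl l .o p M = 0 := rfl

theorem walk_n (pl : List ℕ) (l : List Bool) (x : Lt) (c s : Tr) (p M : ℕ) :
    walk pl l (.n x c s) p M =
      ((if fails pl ((nt x).app M) l (pimg (pls [nt x]) p) = true then 2 ^ pimg (pls [nt x]) p else 0) |||
        walk pl l c (pimg (pls [nt x]) p) ((nt x).app M)) ||| walk pl l s p M := by
  show Nat.lor (Lib.PermNetPt.force (pimg (pls [nt x]) p) fun p' => seq ((nt x).app M) fun M' =>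
        Nat.lor (Bool.rec 0 (Nat.pow 2 p') (fails pl M' l p')) (walk pl l c p' M')) (walk pl l s p M) = _
  rw [Lib.PermNetPt.force_eq, seq_eq]
  cases fails pl ((nt x).app M) l (pimg (pls [nt x]) p) <;> rfl

/-- the test `l` with the powers of `v` fails at `q` -/
def Bad (v : Fi23) (l : List Bool) (q : ℕ) : Prop :=
  ∃ k, ∃ hk : k < l.length, ¬ (Com q (rho (v ^ (k + 1)) q) ↔ l[k] = true)

theorem Bad.act {v : Fi23} {l : List Bool} {q : ℕ} (h : Bad v l q) (hq : q < 31671) {g : Fi23}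
    (hg : g * v = v * g) : Bad v l (rho g q) := by
  obtain ⟨k, hk, h1⟩ := h
  refine ⟨k, hk, ?_⟩
  have h2 : g * v ^ (k + 1) = v ^ (k + 1) * g := ((show Commute g v from hg).pow_right (k + 1)).eq
  rw [← Equiv.Perm.mul_apply, ← map_mul, ← h2, map_mul, Equiv.Perm.mul_apply, com_act g hq]
  exact h1

/-- the mask of the points commuting with `p` -/
def Msk (p M : ℕ) : Prop := ∀ q < 31671, (M.testBit q = true ↔ Com p q)

theorem Msk.step {p M : ℕ} (h : Msk p M) (hp : p < 31671) (x : Lt) : Msk (rho (el x) p) ((nt x).app M) := by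
  intro q hq
  rw [testBit_app (nt_ok x), ← rho_el, h _ (act_lt _ hq)]
  have h1 : q = rho (el x) (rho (el x) q) := by
    rw [← Equiv.Perm.mul_apply, ← map_mul, el_sq, map_one]
    rfl
  conv_rhs => rw [h1]
  exact (com_act (el x) hp).symm

theorem pimg_nt (x : Lt) {p : ℕ} (hp : p < 31671) : pimg (pls [nt x]) p = rho (el x) p := by
  rw [pimg_pls _ (WOk.cons (nt_ok x) (WOk.nil _)) (by omega), wperm_cons, wperm_nil, mul_one, rho_el]

theorem fails_spec {pl : List ℕ} {v : Fi23} (hv : ∀ q < 31671, pimg pl q = rho v q) {p M : ℕ} (hM : Msk p M)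
    (l : List Bool) {q : ℕ} (hq : q < 31671) :
    fails pl M l q = true ↔ ∃ k, ∃ hk : k < l.length, ¬ (Com p (rho (v ^ (k + 1)) q) ↔ l[k] = true) := by
  induction l generalizing q with
  | nil =>
    constructor
    · intro h
      exact absurd h (by simp [fails])
    · rintro ⟨k, hk, -⟩
      exact absurd hk (Nat.not_lt_zero k)
  | cons e l ih =>
    rw [fails_cons, hv q hq]
    have hq' := act_lt v hq
    have hb := hM _ hq'
    have hsh : ∀ k, rho (v ^ (k + 1)) (rho v q) = rho (v ^ (k + 2)) q := by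
      intro k
      rw [← Equiv.Perm.mul_apply, ← map_mul, ← pow_succ]
    by_cases h : M.testBit (rho v q) = e
    · rw [if_pos h, ih hq']
      constructor
      · rintro ⟨k, hk, h1⟩
        refine ⟨k + 1, by rw [List.length_cons]; omega, ?_⟩
        rw [List.getElem_cons_succ, ← hsh]
        exact h1
      · rintro ⟨k, hk, h1⟩
        cases k with
        | zero =>
          exfalso
          apply h1
          rw [List.getElem_cons_zero, Nat.zero_add, pow_one, ← hb, h]
        | succ k =>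
          refine ⟨k, by rw [List.length_cons] at hk; omega, ?_⟩
          rw [List.getElem_cons_succ, ← hsh] at h1
          exact h1
    · rw [if_neg h]
      simp only [true_iff]
      refine ⟨0, by rw [List.length_cons]; omega, ?_⟩
      rw [List.getElem_cons_zero, Nat.zero_add, pow_one, ← hb]
      intro h1
      apply h
      cases e <;> cases hc : M.testBit (rho v q)
      · rfl
      · rw [hc] at h1; exact absurd (h1.1 rfl) (by simp)
      · rw [hc] at h1; exact absurd (h1.2 rfl) (by simp)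
      · rfl

theorem walk_spec {pl : List ℕ} {v : Fi23} (hv : ∀ q < 31671, pimg pl q = rho v q) (l : List Bool) (t : Tr)
    {p M : ℕ} (hp : p < 31671) (hM : Msk p M) {q : ℕ} (h : (walk pl l t p M).testBit q = true) :
    q < 31671 ∧ Bad v l q := by
  induction t generalizing p M with
  | o =>
    rw [walk_o] at h
    simp at h
  | n x c s ihc ihs =>
    rw [walk_n, pimg_nt x hp, Nat.testBit_or, Nat.testBit_or, Bool.or_eq_true, Bool.or_eq_true] at h
    rcases h with (h | h) | h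
    · by_cases h1 : fails pl ((nt x).app M) l (rho (el x) p) = true
      · rw [if_pos h1, Nat.testBit_two_pow] at h
        have h2 := of_decide_eq_true h
        rw [← h2]
        exact ⟨act_lt _ hp, (fails_spec hv (hM.step hp x) l (act_lt _ hp)).1 h1⟩
      · rw [if_neg h1] at h
        simp at h
    · exact ihc (act_lt _ hp) (hM.step hp x) h
    · exact ihs hp hM h

/-- **Walks**: a 3-element `w` commuting with `v` and `y` fixes the point `b` if all points of `S` not in `⟨y⟩ b`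
fail the test. -/
theorem fix_of_walk {w v y : Fi23} (hw : Tel w) (hv : w * v = v * w) (hy : w * y = y * w) (hvy : v * y = y * v)
    {o : ℕ} (ho : y ^ o = 1) (ho3 : o.Coprime 3) {l : List Bool} {b : ℕ} (hb : b < 31671) (hgood : ¬ Bad v l b)
    (hcov : ∃ k ∈ zpowers y, rho k (rho w b) = b ∨ Bad v l (rho k (rho w b))) : rho w b = b := by
  obtain ⟨k, hk, h⟩ := hcov
  have hkw : w * k = k * w := by
    obtain ⟨m, rfl⟩ := hk
    exact ((show Commute w y from hy).zpow_right m).eq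
  have hkv : k * v = v * k := by
    obtain ⟨m, rfl⟩ := hk
    exact ((show Commute v y from hvy).zpow_right m).eq.symm
  rcases h with h | h
  · apply fix_of_comm hw (y := k⁻¹) ((show Commute w k from hkw).inv_right).eq (o := o) _ ho3
    · rw [map_inv, Equiv.Perm.eq_inv_iff_eq, h]
    · obtain ⟨m, rfl⟩ := hk
      change ((y ^ m)⁻¹) ^ o = 1
      rw [inv_pow, ← zpow_natCast, ← zpow_mul, mul_comm, zpow_mul, zpow_natCast, ho, one_zpow, inv_one]
  · exfalso
    apply hgood
    have h1 : (w⁻¹ * k⁻¹) * v = v * (w⁻¹ * k⁻¹) := by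
      have c1 : Commute w v := hv
      have c2 : Commute k v := hkv
      exact (c1.inv_left.mul_left c2.inv_left).eq
    have h2 := h.act (act_lt _ (act_lt _ hb)) h1
    rw [map_mul, Equiv.Perm.mul_apply, map_inv, map_inv, Equiv.Perm.inv_eq_iff_eq.2 rfl,
      Equiv.Perm.inv_eq_iff_eq.2 rfl] at h2
    exact h2

end Cfsg.Agent.LThreeFi23

end

-- merged: Cfsg.Agent.LThreeFi23.Data
section

/-! Data for `LThreeFi23`: trees of letters (helper48) -/

set_option autoImplicit false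
set_option maxRecDepth 10000

namespace Cfsg.Agent.LThreeFi23.Data

open Cfsg.Agent.LThreeFi23
open Cfsg.Agent.LThreeFi23.Tr (n o)

def t23_0 : Tr := (n .f (n .c (n .b (n .a (n .i (n .c (n .g o o) (n .g o (n .d (n .c o o) o))) o) (n .g o (n .i o o))) (n .d (n .a (n .b o (n .e o (n .g o (n .i o o)))) (n .c (n .b (n .e (n .c o (n .g o (n .i o o))) o) (n .e (n .g (n .h o (n .i o o)) o) (n .g (n .i o o) (n .i o o)))) (n .e (n .b o (n .g (n .f (n .i o o) (n .h o (n .j o o))) (n .h o o))) (n .f o (n .g (n .f (n .b (n .e o o) (n .e o (n .i o o))) (n .h (n .i (n .f (n .g o o) (n .h (n .g (n .b o o) o) o)) o) (n .i (n .h (n .a (n .e o o) (n .j (n .b o (n .f o o)) o)) o) o))) o))))) (n .g (n .f (n .i o o) o) (n .i o o)))) (n .d (n .a (n .c o o) (n .c (n .b (n .g o o) (n .f o (n .g (n .f o (n .i o o)) o))) (n .g (n .f (n .e (n .a o o) o) (n .i (n .h o o) o)) o))) (n .g (n .f (n .i o (n .j o o)) o) (n .i o o)))) (n .g (n .f (n .c (n .d (n .b (n .a o (n .c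 (n .d (n .e (n .d o (n .i o (n .j o o))) (n .h (n .i o o) o)) o) (n .e o (n .h o o)))) (n .e (n .c (n .d o o) o) (n .i (n .j (n .g (n .e o o) o) o) (n .j (n .c o o) o)))) (n .j (n .g (n .b o (n .i o o)) o) o)) (n .d (n .c (n .b o (n .i (n .j o o) (n .j (n .g o o) o))) (n .e o (n .i o (n .j (n .g (n .i (n .a o (n .e o o)) o) o) o)))) (n .h (n .j (n .g o o) o) (n .i (n .b o (n .j (n .a o (n .g o o)) o)) (n .j (n .b o o) o))))) (n .h (n .j o o) (n .i (n .b o (n .c (n .b (n .a o (n .d (n .c o o) o)) (n .d (n .c o (n .j o (n .a (n .h o o) o))) o)) (n .j o o))) (n .j (n .b o (n .d o o)) o)))) (n .h (n .c (n .d o o) o) (n .i o o))))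
def t23_1 : Tr := (n .e (n .b (n .h (n .i o o) (n .i o o)) (n .g (n .f (n .h (n .b (n .d (n .e (n .b (n .j o o) o) o) o) (n .j o o)) (n .i (n .h (n .i (n .b (n .d o o) (n .d (n .c o o) o)) o) (n .j (n .g o o) o)) (n .j (n .b o o) o))) (n .i o (n .j o o))) (n .i o o))) (n .g (n .i (n .h (n .b (n .e o (n .i (n .c (n .d o (n .e o (n .g o (n .j (n .i o o) o)))) o) o)) (n .i (n .e (n .d o o) (n .j o o)) o)) o) o) (n .h (n .b (n .d (n .c (n .g (n .b (n .i o (n .e (n .d o o) o)) (n .h (n .j o o) (n .i (n .j o o) (n .j o o)))) (n .i (n .b (n .a (n .f o (n .d (n .e o o) o)) (n .f o o)) (n .d (n .c o (n .f (n .h (n .b (n .a o o) o) (n .e (n .d o o) o)) o)) o)) o)) (n .e (n .f (n .g (n .d (n .f o (n .j (n .c (n .d (n .e o o) o) o) o)) (n .i (n .c (n .j (n .b o o) o) o) o)) o) (n .h (n .g (n .f (n .j o o) o) o) o)) (n .i (n .f o o) o))) o) (n .d (n .a (n .c (n .i o o) (n .e (n .i (n .f o o) o) o)) (n .e t23_0 (n .f (n .c (n .b (n .f o (n .i o o)) (n .i o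 o)) o) (n .i (n .c (n .b (n .a (n .e o (n .g o o)) (n .e (n .d o o) (n .g (n .j o o) o))) (n .g (n .j (n .a o o) o) o)) (n .g o o)) o)))) o)) (n .i (n .h (n .b o (n .i (n .f (n .b o (n .h o o)) o) o)) o) o))))
def t23_2 : Tr := (n .a (n .e (n .f (n .e o (n .j (n .g o o) o)) (n .g o (n .j (n .d (n .b (n .j (n .a (n .h (n .i (n .f o o) o) o) o) o) o) o) o))) o) (n .e (n .b (n .a (n .d (n .c (n .g o (n .h (n .i (n .a (n .j o o) o) o) o)) o) o) (n .f (n .e (n .a (n .g o (n .h o o)) (n .h (n .g o (n .d (n .c o o) o)) (n .j o o))) (n .h o (n .i o o))) (n .g (n .f (n .a o (n .d (n .e (n .a (n .i (n .e o (n .h (n .b o o) o)) o) (n .b o (n .i o o))) o) o)) o) (n .j (n .e o (n .i (n .d o o) o)) (n .h (n .i (n .a (n .d o (n .j o o)) (n .j o (n .g (n .h o o) o))) o) o))))) (n .g (n .f o (n .i o o)) (n .j (n .f (n .g (n .i o (n .h (n .i (n .d o (n .b (n .j o o) o)) o) o)) o) o) o))) (n .h (n .b (n .g (n .i o o) o) (n .d (n .e o o) o)) (n .i (n .b (n .a o (n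 .g o o)) (n .f (n .a o (n .e (n .c (n .a (n .j (n .b o o) o) (n .h o o)) (n .i o o)) o)) (n .h (n .a (n .j (n .d (n .i (n .f (n .g (n .e (n .d o (n .i o o)) o) o) (n .h (n .j (n .e (n .f o o) o) o) (n .j (n .c (n .d o (n .e o (n .g (n .i o o) o))) o) (n .a (n .c o o) (n .b (n .e o o) o))))) o) (n .f (n .e o (n .i (n .j (n .a (n .h o o) o) o) o)) o)) o) (n .d (n .c (n .b (n .i (n .h o o) o) o) (n .e o o)) o)) (n .j o o)))) o))))
def t23_3 : Tr := (n .c (n .b (n .j (n .a (n .i o o) o) o) o) (n .f (n .e (n .b (n .a (n .j o o) o) (n .g (n .h (n .b (n .a (n .i (n .c (n .j o o) (n .d (n .c (n .e (n .a (n .c (n .j o o) (n .d (n .c (n .j o (n .f (n .e o o) o)) (n .g (n .b (n .e (n .f (n .g (n .j o o) o) o) o) o) (n .j (n .f (n .b (n .c (n .a (n .e o o) o) o) o) (n .b (n .e o o) o)) o))) o)) (n .d (n .b (n .c (n .b (n .f o (n .j o o)) (n .f o o)) o) (n .i (n .f (n .a o (n .d (n .b o o) o)) (n .c (n .e o (n .h o o)) o)) o)) o)) (n .b (n .j (n .a (n .g (n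 .j o o) o) o) o) (n .d (n .f o (n .g o o)) o))) (n .h (n .j o o) o)) (n .f o o))) o) (n .f (n .c (n .j o o) (n .h (n .j o o) o)) o)) (n .d (n .f (n .e o (n .c (n .j (n .b (n .d o o) o) (n .b (n .a (n .c o o) o) o)) o)) o) (n .i (n .c (n .e (n .b (n .g (n .d (n .i (n .b (n .j o o) o) (n .b (n .c o o) o)) (n .c (n .b o o) o)) (n .h o o)) (n .f (n .i o o) o)) (n .b (n .c (n .a (n .h o o) o) o) o)) (n .h (n .j (n .i o o) o) o)) (n .j (n .g (n .c (n .h o o) o) o) o)))) o) (n .i (n .c (n .e o (n .g (n .f (n .c (n .e (n .g (n .h o o) o) (n .j o o)) o) o) o)) o) (n .f (n .j o o) o)))) o) (n .h (n .d o o) o)))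
def t23_4 : Tr := (n .g (n .b (n .d (n .a (n .c (n .b (n .f (n .e (n .f (n .j o o) (n .i o (n .j (n .g (n .h o (n .f (n .i o o) o)) o) o))) o) (n .j (n .d (n .c (n .a (n .f (n .j o o) (n .i o o)) (n .f (n .h (n .g (n .i (n .h o o) o) (n .i (n .c o (n .f (n .e o (n .j o o)) o)) o)) o) (n .i o o))) (n .i o o)) o) (n .h (n .i o o) o))) (n .d (n .c (n .f (n .e (n .h o o) o) o) (n .g (n .b (n .a (n .b (n .g (n .f o o) o) o) (n .c (n .f o (n .i (n .a o o) o)) o)) o) o)) (n .j (n .i o o) o))) (n .g (n .i (n .c (n .b (n .f (n .d (n .b o o) (n .g (n .e (n .b (n .f (n .i o o) o) (n .i (n .h (n .j o o) o) o)) (n .f o (n .j (n .h (n .b o (n .e o (n .d (n .c (n .b (n .j (n .i (n .h o o) o) (n .f (n .i o o) o)) o) o) o))) o) (n .a (n .b o o) o)))) o)) o) o) o) o) o)) o) (n .j (n .f (n .c (n .a (n .g (n .b (n .h o (n .i o o)) o) (n .d (n .e o o) (n .h (n .d o o) o))) (n .j (n .h o o) o)) (n .h (n .a (n .d o (n .g (n .i o o) o)) o) o)) (n .i (n .a (n .c (n .d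 o (n .j o o)) (n .f o o)) o) o)) o)) (n .d t23_3 (n .f (n .g (n .h (n .f (n .b o o) (n .i (n .h (n .j o o) o) o)) o) o) (n .i o (n .j o o))))) (n .h (n .b (n .i o o) (n .d (n .f (n .c o o) o) o)) (n .i o o)))
def t23_5 : Tr := (n .b (n .d (n .c (n .b (n .a (n .e o (n .f (n .e (n .f o o) o) o)) (n .e (n .f o o) (n .f (n .e (n .d (n .e (n .d o (n .c (n .g o o) o)) o) (n .g o o)) (n .g (n .c o (n .d (n .h (n .a (n .d (n .c (n .i o (n .j (n .a o (n .b o o)) o)) (n .g o (n .i (n .e (n .j o o) o) o))) (n .i (n .e (n .a (n .f (n .j (n .g (n .i o o) o) o) o) (n .d (n .c t23_2 (n .e (n .f (n .a (n .e (n .f (n .h (n .i (n .d o (n .j (n .f (n .i (n .g (n .h o o) o) o) (n .g o o)) o)) o) o) (n .g (n .b o o) (n .b (n .i o o) o))) (n .i o (n .g (n .j o o) o))) o) (n .g (n .f (n .i (n .a (n .b o o) o) o) (n .i (n .a o o) o)) o)) (n .g (n .a (n .h o o) o) o))) (n .g o (n .j (n .f (n .i o o) o) o)))) (n .g o o)) o)) (n .d (n .b (n .i (n .j (n .e (n .f (n .g o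 o) o) o) o) o) (n .i (n .c (n .e (n .j o o) o) o) o)) (n .j o o))) (n .e (n .f o o) o)) o)) o)) o))) (n .d o (n .e o o))) o) (n .f (n .g (n .c (n .j o o) (n .d (n .c (n .d (n .e (n .c o (n .d o (n .j (n .b o o) o))) o) (n .e (n .d (n .h (n .d o o) o) o) o)) (n .e (n .f o o) (n .h (n .i o o) o))) (n .j o o))) o) o)) (n .d (n .c (n .b (n .a (n .e o o) (n .e (n .d o o) (n .h o o))) (n .e (n .f o o) (n .f (n .e (n .d (n .b (n .c (n .f o (n .g (n .j o o) o)) o) (n .g (n .f (n .e (n .b o o) (n .j o o)) o) (n .h (n .i (n .f o (n .g o o)) o) o))) (n .g (n .b o (n .f o o)) o)) (n .h (n .d (n .b (n .g (n .c (n .a o o) (n .e o o)) o) (n .e (n .g (n .f o (n .i (n .a (n .f o o) o) o)) (n .i o o)) (n .f (n .a o o) (n .g (n .i (n .h (n .j o o) o) o) (n .i o o))))) (n .g (n .b (n .a o (n .j (n .i o o) o)) (n .i (n .j o o) (n .j o o))) (n .i o o))) o)) o))) (n .f (n .e (n .b (n .c (n .d (n .h o o) o) o) (n .g (n .f (n .j o o) (n .j o o)) o)) (n .g (n .h (n .i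 (n .j o o) (n .j o o)) o) (n .h (n .i (n .b (n .c (n .d (n .e t23_4 (n .h (n .b (n .a (n .f o (n .g o (n .i o o))) (n .g (n .j (n .b o o) o) o)) (n .f o (n .i o o))) (n .i o o))) o) o) o) o) o))) (n .h (n .i (n .b o (n .c (n .d (n .b (n .h (n .f (n .a o o) o) o) (n .h o o)) o) o)) o) o))) (n .f (n .g (n .j o o) o) o)))
def t23_6 : Tr := (n .b (n .a (n .f (n .e (n .b o (n .f o (n .g (n .d o (n .f (n .j o o) (n .h (n .d o (n .i o (n .j o o))) (n .j o o)))) o))) (n .g (n .h (n .i (n .j o o) (n .j o o)) o) (n .h (n .b (n .i (n .c o o) o) (n .d (n .e (n .b o o) o) (n .i (n .e o o) o))) o))) (n .h (n .e (n .i o o) (n .i (n .b o (n .d (n .c (n .b (n .f (n .i o o) o) (n .i o o)) (n .h (n .f (n .a o (n .c (n .g (n .e (n .f o o) (n .j (n .b o (n .h o o)) o)) o) (n .g (n .e (n .d (n .g o o) (n .f o (n .j o o))) o) o))) o) o)) o)) o)) o)) (n .e (n .f (n .e o o) o) (n .f (n .e (n .d (n .c (n .g o o) (n .g (n .h o o) (n .h o o))) (n .g o o)) (n .g (n .h (n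 .i o (n .j (n .e (n .f (n .g o o) (n .i o o)) o) o)) o) (n .h (n .d (n .e (n .g (n .c (n .a (n .e o (n .j (n .f o (n .i o o)) o)) (n .d (n .h (n .j o o) o) (n .e (n .j o o) (n .i o o)))) (n .i (n .a (n .d o o) (n .h (n .d (n .f o o) (n .f o o)) o)) (n .j (n .a (n .f (n .g o o) o) o) o))) (n .i (n .c (n .a o o) o) o)) (n .f o o)) o) o))) o))) (n .f (n .e (n .d (n .g (n .h (n .i o (n .j (n .a o o) o)) o) o) (n .f o (n .g o o))) (n .g (n .h (n .d (n .j o o) (n .i o (n .j o o))) (n .j (n .a o o) o)) (n .h (n .i o o) o))) o))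
def t23_7 : Tr := (n .e (n .d (n .f (n .e (n .g (n .f (n .i (n .j (n .g o o) o) (n .j (n .g o o) o)) (n .i (n .j o o) (n .j o o))) (n .i o o)) (n .g (n .h (n .d (n .c (n .a (n .b (n .a o o) (n .j o o)) (n .b (n .a (n .g o (n .i (n .e (n .f (n .d (n .e (n .a o o) (n .g o o)) (n .j (n .g o o) o)) (n .j o o)) o) o)) (n .i (n .e (n .d (n .j o o) (n .f (n .g o (n .j o o)) (n .j o o))) (n .j o o)) (n .j (n .e o o) o))) o)) (n .e (n .d (n .c (n .a (n .b (n .a o (n .c o (n .e (n .f (n .e o (n .j o o)) o) o))) (n .d (n .h (n .j (n .c o o) o) o) (n .e (n .j (n .f o o) o) o))) (n .d o (n .e (n .i o (n .j o o)) (n .i (n .j o o) o)))) (n .f o (n .j o o))) (n .h (n .j (n .f (n .g (n .h (n .j o o) o) o) o) o) (n .i o (n .j o o)))) (n .h o (n .i o o)))) (n .i (n .a (n .e (n .j o o) o) (n .g (n .f o o) (n .h (n .j (n .e o o) o) (n .j (n .e o o) o)))) (n .j o o))) (n .i (n .h o o) o)) (n .i (n .h (n .i (n .e o (n .f o o)) o) o) o))) (n .i o o)) (n .f (n .g (n .i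 (n .j o o) (n .j o o)) o) o)) (n .h (n .d (n .e (n .d (n .c t23_6 (n .e (n .f (n .c o (n .e o o)) (n .h o o)) (n .f (n .e (n .g (n .f (n .h (n .c (n .b o (n .i o (n .j (n .g (n .h o o) o) o))) (n .i (n .d o (n .j o o)) o)) (n .j o o)) (n .h (n .d (n .c (n .j (n .d (n .h o o) o) o) o) o) (n .j o o))) o) (n .g (n .h (n .i (n .j (n .e (n .c (n .d o o) o) o) o) (n .j o o)) o) (n .h o o))) (n .h (n .i (n .c (n .b (n .d o (n .e o o)) (n .e o o)) o) o) o)))) (n .f (n .g (n .j o o) o) o)) o) o) (n .i o o)))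
def t23_8 : Tr := (n .a (n .b (n .a (n .d (n .c (n .e (n .j (n .f (n .h (n .g o o) o) o) o) o) (n .e (n .j o o) o)) (n .e (n .b o (n .d (n .c (n .e (n .j o o) (n .g o o)) (n .h (n .a o (n .f o o)) o)) (n .g o o))) (n .g o o))) (n .d (n .c (n .e (n .f (n .d (n .a (n .g (n .e (n .j (n .g o o) o) o) o) (n .g (n .e (n .f (n .j (n .c (n .a (n .g (n .h o o) o) (n .g (n .e o (n .f (n .c o o) o)) (n .h (n .i (n .d (n .a (n .h o (n .j o o)) o) o) (n .d (n .e o o) o)) o))) (n .e o (n .h (n .a (n .j o o) (n .g (n .b (n .i (n .g (n .e (n .d (n .c (n .j o o) o) o) o) o) o) (n .f o o)) o)) o))) o) (n .j (n .g (n .b o (n .j (n .g (n .b o (n .h (n .i o o) o)) o) o)) (n .h (n .i (n .e (n .f (n .e (n .a (n .d o o) o) o) o) o) o) o)) o)) o) o)) (n .h (n .d (n .e (n .a (n .c o (n .g o o)) o) o) o) (n .j o o))) (n .j o o)) (n .j o o)) o) (n .e o (n .g o (n .j o o))))) (n .d (n .e (n .f (n .d (n .e (n .b (n .h (n .d (n .b o (n .g o o)) o) o) o) (n .j (n .h (n .i (n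 .f o (n .g o o)) o) o) o)) o) o) (n .j o o)) (n .g o (n .j o o)))) (n .d (n .e (n .b (n .a (n .f (n .d o (n .j (n .g o o) o)) (n .j o o)) (n .j (n .f (n .g o o) o) o)) (n .d (n .e (n .h o o) (n .j (n .a o o) o)) (n .f (n .h (n .d (n .j o o) (n .i o o)) (n .j o o)) (n .j o o)))) o) (n .g (n .b (n .a o o) o) o)))
def t23_9 : Tr := (n .c (n .a (n .b (n .e (n .d (n .c (n .f (n .e (n .d (n .g o o) (n .g (n .i o (n .j (n .f o o) o)) (n .i o o))) (n .g (n .h (n .d (n .c (n .b (n .e o (n .g o (n .i (n .h (n .g o (n .j (n .a o o) (n .e (n .d (n .c o o) o) o))) o) o))) (n .i (n .h o (n .j o o)) o)) o) (n .j o o)) (n .i o (n .j o o))) o)) o) o) (n .f (n .g (n .d (n .e o o) (n .h (n .j o o) (n .j (n .i o o) o))) (n .h o (n .i o o))) (n .h o (n .i o o)))) (n .h o o)) (n .e (n .d (n .f t23_1 o) (n .f (n .g (n .i (n .j o o) (n .j o o)) o) o)) (n .h (n .d (n .e t23_5 o) o) (n .i o o)))) t23_7) (n .e (n .a (n .h (n .f (n .g (n .j o o) o) o) o) (n .f (n .g (n .a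 (n .i o o) (n .h (n .d (n .c t23_8 (n .e (n .a (n .g o (n .j (n .f (n .c (n .g o o) o) o) o)) (n .b (n .f (n .c (n .b (n .a o o) (n .d o o)) (n .j (n .g o o) o)) (n .g o (n .j o o))) (n .f (n .c (n .a (n .d (n .e (n .b (n .a o o) o) (n .h (n .i o o) o)) o) (n .b (n .a (n .j (n .b o o) o) (n .d (n .c (n .d (n .j (n .e o o) o) (n .e (n .j o o) o)) (n .h (n .a (n .e (n .d o o) o) (n .e o o)) o)) o)) (n .d (n .e (n .f o (n .j (n .g o o) o)) (n .j o o)) (n .j o o)))) o) (n .g o (n .j o o))))) o)) (n .j o o)) (n .i o o))) (n .h o (n .i (n .a o o) o))) (n .h (n .d (n .b o o) o) (n .i o o)))) (n .h (n .a o o) o)))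
def t23 : Tr := (n .f o (n .e (n .d (n .c (n .b (n .a (n .h (n .i (n .a (n .d (n .b (n .e (n .f (n .g (n .h (n .j o o) (n .i o (n .j o o))) (n .h o (n .i o o))) o) (n .h o o)) t23_9) o) o) o) o) o) o) (n .h (n .i o o) o)) o) o))
def t17_0 : Tr := (n .d (n .e (n .h (n .a (n .j o o) (n .j o o)) o) (n .h (n .a (n .i (n .b o (n .h (n .j o o) (n .j o o))) o) (n .f (n .e (n .g (n .d (n .i (n .e (n .d (n .f (n .g (n .b (n .a o o) (n .d o o)) o) (n .g o o)) (n .h (n .a o (n .f (n .g (n .a o (n .b (n .a (n .f o o) (n .f o o)) (n .e (n .j o o) o))) o) (n .g (n .i (n .c o o) (n .j (n .g (n .b o o) o) o)) (n .i o (n .j o o))))) (n .j (n .i (n .f (n .e (n .g (n .i (n .b (n .a (n .b o o) o) o) o) o) o) o) o) o))) o) o) (n .j (n .g (n .a o (n .d o (n .f (n .g (n .b (n .j o o) (n .e (n .a (n .b o (n .d o o)) (n .j (n .d o o) o)) (n .f o o))) o) o))) o) o)) (n .j o o)) (n .g (n .i (n .b (n .a (n .d (n .e (n .d o o) o) o) (n .c o (n .e (n .j (n .d (n .c (n .b (n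 .c (n .a (n .g o (n .h (n .e o o) o)) (n .f o o)) (n .d o o)) (n .f (n .h o o) o)) o) o) o) (n .j o o)))) (n .h (n .c o o) (n .j o o))) (n .j (n .g (n .f o o) o) o)) (n .i o o))) (n .j (n .d (n .i (n .f o o) o) (n .i o o)) o))) (n .i o o))) (n .f (n .e (n .h (n .g o o) (n .j (n .g o o) o)) (n .g (n .b o (n .d o (n .h (n .j o o) o))) o)) (n .h (n .d o (n .j o o)) (n .j (n .g (n .f o o) (n .i o o)) o))))
def t17_1 : Tr := (n .b (n .c (n .h (n .f (n .e o (n .g o o)) (n .j (n .g o (n .d (n .h o o) o)) o)) (n .i (n .j o o) (n .j (n .f (n .g (n .h o (n .d (n .h o o) o)) o) o) o))) (n .f (n .e (n .c o (n .j (n .d o o) o)) (n .g (n .h o (n .j o o)) (n .h (n .j o o) o))) (n .h (n .d (n .c o o) (n .j (n .g o o) o)) (n .j o o)))) (n .c (n .b (n .a (n .b (n .d (n .a o (n .c o (n .h o o))) (n .f (n .g o o) (n .j o o))) (n .f (n .d (n .c (n .e o o) (n .e (n .b (n .f (n .c (n .b o (n .h (n .i (n .a (n .c o o) o) o) o)) o) (n .d (n .j o o) o)) (n .f o (n .h o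 o))) o)) (n .e (n .c o (n .h (n .j (n .f o o) o) o)) (n .j o o))) (n .j (n .d (n .g (n .c (n .d (n .i o o) (n .e o o)) (n .e o o)) o) (n .i (n .g o o) o)) o))) (n .d (n .c (n .d (n .a o (n .j o o)) o) (n .e (n .a (n .c (n .h o (n .j o o)) (n .f (n .g (n .c o o) o) o)) (n .d (n .f (n .h o o) o) (n .i o (n .j (n .c o o) o)))) (n .h (n .d o (n .f o (n .i (n .a (n .h (n .e o (n .j o o)) (n .j (n .b o o) o)) (n .j o o)) (n .j o o)))) (n .j (n .f o o) o)))) (n .h (n .d (n .a (n .e (n .h (n .d (n .j o o) o) (n .c (n .d o o) o)) o) o) o) (n .j o o)))) t17_0) (n .f (n .g (n .h (n .j o o) (n .j (n .g (n .c o (n .i o o)) o) o)) (n .j (n .g (n .a o (n .b (n .f (n .j o o) o) (n .c o (n .d o (n .f o o))))) o) o)) (n .h (n .d (n .c (n .j (n .g o o) o) (n .f o (n .j o o))) (n .j o o)) (n .j (n .g (n .f o (n .i (n .e o o) o)) o) o)))))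
def t17_2 : Tr := (n .e (n .i (n .a (n .c o (n .h (n .f (n .c (n .e o (n .j o o)) (n .g o o)) (n .j (n .c (n .g o o) o) o)) (n .j o o))) (n .b (n .c (n .h (n .f o (n .j o o)) (n .i o o)) (n .h o o)) (n .c (n .b (n .a (n .f (n .b o (n .g o o)) (n .j (n .d o (n .g o o)) o)) o) (n .d o (n .f (n .e (n .d (n .e o o) (n .g o (n .h o (n .i o o)))) (n .i (n .g (n .a (n .e o o) o) o) (n .j o o))) o))) (n .f (n .e (n .h (n .d o o) (n .i (n .a o o) o)) (n .g (n .d o (n .h (n .b o o) (n .i o o))) o)) (n .h o (n .j o o)))))) o) (n .i (n .a (n .c (n .f (n .d (n .e (n .c o (n .h o o)) (n .g (n .b o o) o)) (n .e (n .h (n .g o o) (n .j (n .g o o) o)) (n .g (n .h (n .j o o) (n .i (n .e o o) (n .j o o))) (n .h (n .j o o) (n .j o o))))) (n .h (n .d (n .b (n .c (n .h o o) (n .h (n .a o o) o)) (n .e (n .c (n .f (n .b (n .j o o) (n .g (n .a (n .h (n .b (n .a (n .d (n .g o o) (n .h o (n .j o (n .e (n .d o o) o)))) (n .j o o)) (n .d (n .g (n .b (n .e (n .c o (n .f (n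 .j o o) o)) o) o) (n .e (n .f o o) o)) (n .e (n .d (n .i (n .b o o) o) (n .f o (n .j o o))) o))) o) (n .h o (n .e (n .d o o) o))) o)) (n .h (n .i o o) (n .j (n .g o o) o))) (n .h (n .a o (n .d (n .c (n .a o o) (n .h (n .e o o) o)) (n .f o (n .i (n .j o o) o)))) (n .j (n .g o o) o))) (n .h (n .i o o) o))) (n .j (n .g (n .f (n .g o o) o) o) o)) o)) (n .f (n .e (n .h (n .j o o) (n .j o o)) (n .g (n .h (n .j o o) (n .j (n .i o o) o)) (n .h o o))) (n .h (n .d (n .c (n .j (n .g o o) o) (n .j o o)) o) o))) t17_1) o))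
def t17_3 : Tr := (n .c (n .b (n .a (n .b (n .f (n .i o o) (n .j o o)) (n .d (n .j (n .c o (n .i o o)) o) (n .f (n .e (n .d o o) (n .g o (n .j o o))) (n .j o o)))) (n .d (n .c (n .f (n .g (n .h o (n .j o o)) o) (n .h (n .j (n .e o o) o) o)) (n .e o (n .f (n .e (n .a (n .c (n .h (n .a (n .j o o) (n .d (n .g o o) o)) o) (n .f (n .b (n .h o o) o) (n .g (n .f (n .a o (n .b o (n .g o o))) o) o))) (n .i o (n .h (n .i o o) o))) (n .h (n .g o o) o)) (n .h o (n .i o (n .j (n .g (n .h o o) o) o)))))) (n .f o (n .h (n .j o o) (n .j o o))))) (n .f (n .d (n .g (n .i (n .b o (n .e o o)) o) (n .h (n .e o o) o)) (n .e (n .d (n .b (n .c o o) (n .c o o)) o) (n .h (n .i (n .g o o) (n .j (n .e (n .b o o) o) o)) (n .j (n .i o o) o)))) (n .h (n .d o (n .j (n .g (n .d (n .e o o) (n .i o o)) o) o)) (n .j (n .d (n .g (n .h (n .e o (n .f o o)) o) o) o) o)))) (n .f (n .e (n .g (n .f o (n .j (n .c o (n .g o o)) o)) (n .h o (n .j (n .d (n .c (n .e (n .f o (n .i (n .a o o)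 o)) o) o) o) o))) (n .g (n .j (n .c (n .g (n .d o (n .f (n .a o o) o)) (n .i (n .b (n .h o o) o) o)) (n .g (n .f (n .a o (n .e o o)) o) o)) o) (n .h (n .d (n .c o (n .g o o)) (n .j (n .g (n .i o o) (n .i (n .e o o) o)) o)) o))) (n .h (n .d (n .c o (n .i o (n .j (n .g (n .c (n .i o o) o) o) o))) (n .j o o)) (n .j (n .g (n .f (n .c (n .e (n .a (n .h o (n .i o o)) (n .i (n .g o o) o)) (n .g o (n .i o o))) (n .e (n .a o (n .g o (n .h o o))) (n .h (n .a o o) o))) o) o) o))))
def t17_4 : Tr := (n .a (n .c (n .d (n .b (n .a (n .c (n .f (n .b o (n .g o o)) (n .h (n .j o o) (n .j o o))) o) (n .c (n .b (n .j o o) (n .f (n .g (n .h (n .e (n .f o o) o) o) o) (n .h (n .d o (n .j o o)) (n .j o o)))) (n .h o o))) (n .e (n .f o (n .j (n .h o o) o)) (n .h (n .f o (n .i o o)) o))) (n .h (n .d (n .b (n .c (n .h (n .j o o) (n .j o o)) (n .j o o)) o) (n .f (n .e (n .i (n .b o (n .g o o)) o) (n .g (n .j o o) (n .i (n .j (n .h o o) o) (n .j o o)))) (n .j o o))) (n .j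 o o))) (n .f (n .e (n .c (n .g (n .j o o) (n .j o o)) (n .h (n .d o (n .j o o)) (n .i o (n .j o o)))) (n .g (n .c (n .d (n .b (n .h o o) (n .e (n .d (n .h (n .c (n .a o o) (n .f (n .j o o) (n .g (n .d (n .e (n .g o o) o) o) o))) o) (n .j o o)) o)) (n .j o o)) (n .h (n .d (n .c (n .h o o) o) (n .i (n .h o o) (n .j o o))) (n .i o o))) (n .h (n .j o o) (n .i o o)))) (n .h (n .d (n .c (n .f o (n .i o o)) (n .j (n .g o (n .i o o)) o)) (n .j o o)) (n .j o o)))) (n .b (n .c (n .b (n .d (n .c (n .a (n .b o o) (n .j (n .h (n .a o o) o) o)) (n .i o (n .j (n .a o (n .g o (n .h o o))) o))) (n .f (n .a (n .g o o) (n .g o o)) (n .i o (n .j o o)))) (n .d (n .h (n .j o o) (n .j o o)) (n .f (n .e (n .h o (n .j o o)) (n .g (n .h o o) (n .h (n .i (n .b (n .g o o) (n .j o o)) (n .d (n .e (n .g o o) o) o)) (n .i (n .h o (n .j o o)) (n .j o o))))) (n .h (n .d (n .e o o) (n .j o o)) (n .j o o))))) (n .f (n .e (n .g (n .j (n .c o o) o) (n .h o (n .i o (n .j o o)))) (n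 .g (n .h o (n .j (n .g (n .c o o) o) o)) (n .h (n .d o (n .j o o)) (n .j (n .g (n .f (n .e o (n .i o o)) o) (n .i o o)) o)))) (n .h (n .d (n .c o (n .i o (n .j (n .g o o) o))) (n .j o o)) (n .j (n .g (n .f (n .c (n .e o (n .i o o)) (n .h (n .e o o) (n .i o o))) o) o) o)))) t17_3))
def t17_5 : Tr := (n .i (n .a (n .c (n .b o (n .d o (n .f (n .e (n .j o o) (n .g (n .b o (n .j (n .e (n .f (n .d (n .e o o) o) o) o) o)) (n .i o o))) (n .i o (n .j (n .e o (n .g o o)) o))))) (n .e (n .f (n .c (n .b o o) (n .g (n .i (n .h o o) o) (n .i (n .e o o) o))) (n .j o o)) (n .f (n .e (n .d (n .h o o) (n .j o o)) (n .g (n .j (n .g o o) o) (n .i o o))) (n .j (n .g o o) o)))) (n .c (n .d (n .e (n .j o o) (n .h (n .j o o) (n .j o o))) (n .e (n .d (n .a (n .h o (n .i o o)) (n .h (n .e o (n .j o o)) o)) (n .f o (n .j o o))) (n .f (n .e (n .j o o) (n .g (n .d (n .h o o) o) o)) (n .j (n .g o o) o)))) (n .e (n .j (n .f o o) o) (n .f (n .e (n .d (n .f (n .c o o) (n .g (n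 .c (n .a o (n .h (n .j o o) (n .i o (n .j o o)))) (n .h o (n .j o o))) (n .h (n .b o (n .c (n .b (n .i o o) o) (n .j o (n .i (n .h o o) o)))) (n .j (n .i (n .a o o) o) o)))) (n .f o (n .j o o))) (n .g (n .j (n .i o o) o) (n .j (n .g (n .a (n .c o (n .i o o)) o) o) o))) (n .j (n .g (n .f (n .d (n .g (n .a o (n .c o o)) o) o) o) o) o))))) (n .j (n .c (n .a (n .g o o) (n .g (n .e (n .d (n .c (n .h o o) (n .h (n .i o o) o)) o) o) o)) (n .e (n .h (n .a (n .c (n .j o o) o) o) o) (n .g (n .h o o) o))) o))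
def t17_6 : Tr := (n .a (n .f (n .j (n .g (n .d o o) o) o) (n .g (n .i (n .h (n .d o o) (n .j (n .g (n .a o o) o) o)) o) o)) (n .i (n .b (n .a (n .e (n .j o o) (n .g o o)) (n .d o (n .e (n .d (n .e (n .g (n .c o o) o) (n .g (n .c (n .a (n .d (n .b o o) o) o) (n .i o o)) (n .h (n .d o (n .j o o)) o))) (n .j o o)) (n .g (n .i (n .d o o) o) (n .h o o))))) (n .d (n .e (n .d (n .h o (n .i (n .a (n .c o o) o) (n .f (n .g (n .e o o) o) o))) (n .f (n .j (n .d (n .c o o) o) o) (n .j (n .c o o) o))) o) (n .e (n .a (n .d (n .b (n .c (n .a (n .g (n .h o (n .j o o)) (n .b (n .f o o) o)) (n .b (n .a (n .b (n .c o (n .h o o)) (n .f o (n .h (n .e o o) o))) o) (n .h o o))) (n .h o o)) (n .h (n .c (n .b (n .e (n .f o o) o) (n .j (n .f o o) o)) (n .d o o)) o)) (n .h (n .j o o) o)) (n .d (n .h (n .g (n .c (n .e (n .i o o) o) (n .i (n .j o o) o)) o) (n .i (n .g (n .h o o) (n .h (n .b (n .c o o) o) o)) o)) (n .h (n .d (n .g (n .b (n .c (n .f (n .b (n .h o o) (n .j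 (n .g (n .j o o) (n .h o o)) o)) (n .d (n .j (n .h (n .f o o) o) o) o)) o) o) o) (n .j o o)) (n .j o o)))) (n .h (n .a o (n .g o o)) o)))) o))
def t17_7 : Tr := (n .b (n .g (n .h (n .j o o) (n .i (n .c (n .h o o) (n .e (n .f (n .h (n .c (n .i o (n .d (n .e o o) o)) (n .i (n .h o o) o)) (n .j (n .g o o) o)) o) (n .h (n .j o o) o))) o)) (n .i (n .c (n .b (n .i o o) (n .h (n .e o (n .i o o)) o)) (n .e (n .d (n .c (n .b (n .e o (n .h (n .a o o) (n .i o o))) (n .g o (n .h o (n .j o o)))) (n .j (n .h (n .i o o) o) o)) (n .h (n .j o o) (n .j (n .c (n .b (n .a o o) o) o) o))) o)) (n .j o o))) (n .c t17_6 (n .g (n .h (n .d o (n .e (n .d (n .b o (n .g (n .i (n .h o o) o) o)) (n .g (n .a o (n .i (n .f (n .a o o) o) o)) (n .j o o))) (n .i (n .h o o) o))) (n .i (n .a (n .h o o) (n .e (n .d (n .c (n .a (n .h (n .j o o) (n .j o o)) (n .b (n .a (n .g o o) o) (n .h (n .j o o) (n .j (n .g o o) o)))) (n .h (n .a o (n .b (n .j (n .c (n .e (n .g (n .j o o) o) (n .g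 o o)) o) o) (n .i (n .j o o) o))) (n .i o o))) (n .f (n .a (n .h (n .c (n .g (n .d (n .e o o) o) o) o) (n .i o o)) (n .c (n .j o o) (n .h (n .d o (n .j o o)) (n .i (n .j o o) o)))) o)) (n .h (n .j o o) (n .j o o)))) o)) (n .i (n .a (n .h (n .e (n .d (n .c (n .g o o) (n .g o (n .i (n .h o o) o))) (n .j o o)) (n .i o o)) o) (n .e (n .d (n .a (n .c o (n .j o o)) (n .c (n .h (n .b (n .a o o) (n .j (n .a o (n .i (n .b o (n .f o o)) o)) o)) (n .j (n .b (n .a (n .b o o) (n .e o o)) (n .g o o)) o)) o)) (n .h (n .j o o) (n .j o o))) (n .h (n .j (n .g (n .c (n .a (n .f o o) (n .h o (n .i (n .b o (n .f o o)) (n .j o o)))) o) o) o) (n .j o o)))) (n .j o o)))))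
def t17_8 : Tr := (n .e (n .h (n .d t17_2 (n .i t17_4 o)) (n .j (n .g (n .a (n .c (n .d (n .a o o) o) (n .i (n .f (n .a (n .e o o) (n .c (n .e (n .g o o) (n .g (n .j o o) (n .h o o))) o)) (n .g o (n .h (n .e o o) o))) o)) o) o) o)) (n .h (n .d (n .b (n .e (n .i (n .f (n .g (n .e (n .f o o) o) o) (n .j o o)) o) (n .i (n .f (n .e (n .g (n .d (n .c o (n .j (n .e o o) o)) o) (n .j o o)) (n .g (n .j (n .g o o) o) (n .j (n .g o o) o))) (n .j (n .g o o) o)) (n .j (n .g (n .e o o) o) o))) t17_5) (n .f t17_7 (n .i (n .a (n .c (n .b o (n .d o (n .h (n .j (n .g (n .d o o) o) o) (n .j (n .f (n .g (n .f o (n .i o o)) o) (n .g (n .f (n .e o o) o) o)) o)))) (n .h (n .j (n .i o o) o) (n .j (n .g o (n .i o o)) o))) (n .b (n .c (n .b o (n .h (n .i (n .j o o) (n .j (n .g o o) o)) (n .j (n .g o o) o))) (n .h (n .j (n .g o (n .i (n .h (n .e (n .c o o) o) o) o)) o) (n .j (n .g (n .f (n .e o o) o) o) o))) (n .c (n .b (n .a (n .i (n .d o (n .j o o)) (n .j (n .g o o)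 o)) (n .d (n .e (n .j (n .f o o) o) (n .j (n .i (n .g o o) o) o)) o)) (n .d (n .e (n .d (n .h o o) (n .f (n .g (n .b o (n .d (n .h (n .e (n .i o o) o) o) o)) (n .j (n .i o o) o)) o)) (n .j (n .g o o) o)) (n .h o (n .j (n .g (n .b o (n .h o o)) o) o)))) (n .h (n .j (n .g (n .i o o) o) o) (n .j o o))))) o))) o))
def t17_9 : Tr := (n .e (n .i (n .h (n .f (n .e o (n .g (n .d (n .b o o) (n .j (n .b o (n .e (n .f (n .b o (n .g (n .j (n .d (n .a o o) o) o) o)) o) o)) o)) o)) o) o) o) (n .f (n .e (n .c (n .i (n .d (n .b o o) (n .g (n .f (n .a o (n .g o o)) (n .j o o)) o)) o) (n .d (n .b (n .e (n .c (n .a (n .b (n .h o o) (n .g (n .e o (n .j o o)) (n .h o (n .i o o)))) o) (n .h (n .a o (n .i o o)) (n .i o o))) (n .h (n .c o (n .f (n .a (n .i (n .c (n .h o o) o) o) (n .i (n .c o (n .h (n .d (n .c (n .i (n .a (n .c o (n .f (n .g (n .j (n .d t17_8 o) o) o) (n .g (n .f o o) o))) (n .g o (n .h o o))) o) o) o) o)) o)) o)) o)) (n .c (n .f (n .g (n .h o o) o)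 (n .g (n .h o (n .i (n .d (n .j o o) (n .h o (n .j o o))) o)) (n .i (n .h o o) o))) (n .e o (n .g (n .h (n .f (n .b o (n .g o o)) (n .j o o)) (n .i (n .b (n .f o o) o) o)) (n .h (n .f (n .g o o) (n .i (n .e o (n .h o o)) o)) o))))) (n .f (n .b o o) (n .g (n .f (n .i (n .h (n .a o o) o) o) (n .i (n .j (n .h (n .d (n .h (n .i o o) o) o) o) o) (n .j (n .c o o) o))) o)))) (n .g (n .c o (n .d (n .e (n .f (n .d (n .b (n .a o o) o) (n .i o o)) (n .j o o)) (n .h o o)) (n .j (n .i o o) o))) (n .i o o))) (n .i (n .h o o) o)))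
def t17_10 : Tr := (n .b (n .a (n .c (n .i (n .d (n .e (n .i o o) o) (n .f (n .e (n .f o o) o) o)) o) (n .d (n .c o (n .f (n .e (n .g o o) o) (n .i o o))) (n .i o o))) (n .c (n .b (n .i (n .d (n .h o o) (n .f (n .g (n .h (n .j o o) (n .i o o)) (n .h o o)) o)) o) (n .e (n .d (n .b (n .h (n .f (n .c (n .g o o) (n .g (n .b (n .j o o) (n .j o o)) o)) o) (n .i (n .c o o) o)) (n .e (n .a o (n .f o (n .i o o))) (n .h o (n .i (n .a o o) o)))) (n .f (n .e (n .a o (n .b (n .i (n .g o (n .h o o)) o) o)) (n .i (n .a (n .g (n .j o o) o) (n .b o o)) o)) (n .i (n .h o o) o))) (n .f (n .e (n .b o o) o) (n .i (n .d (n .e (n .c (n .i o o) o) (n .h (n .c o (n .f (n .i o o) o)) o)) (n .h (n .d o (n .f o o)) o)) o)))) (n .d o (n .f (n .g (n .a (n .c (n .j (n .i o o) o) (n .i (n .d o (n .j o o)) (n .j o o))) (n .d o (n .i (n .h o (n .j o o)) (n .j (n .c (n .b o o) o) o)))) (n .i (n .d (n .c o o) (n .e (n .a (n .d o o) o) (n .h o o))) o)) (n .i (n .h o o) o))))) (n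 .c (n .e (n .d (n .b (n .c o o) (n .h (n .i (n .a o (n .b o (n .h (n .d (n .a o (n .c o o)) (n .f (n .e (n .g o (n .h o o)) o) o)) o))) o) (n .i o o))) (n .f (n .e (n .i (n .b o o) o) (n .g (n .d (n .b (n .c (n .d (n .j o o) (n .h o (n .j o o))) (n .h (n .i (n .h o o) (n .j o o)) o)) (n .h (n .i (n .e (n .f o o) o) (n .j o o)) (n .i (n .h o o) o))) (n .i (n .h o (n .j (n .b (n .d o o) o) o)) (n .j (n .e (n .f (n .g o o) o) o) o))) (n .i (n .b (n .h o o) (n .h o o)) o))) (n .i (n .h (n .d (n .a (n .h o o) (n .c o o)) o) o) o))) (n .i (n .h (n .d (n .b (n .c o o) (n .e o o)) (n .f o o)) o) o)) (n .d (n .h o (n .i (n .f (n .e o (n .g o o)) o) o)) t17_9)))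
def t17_11 : Tr := (n .d (n .f (n .e (n .a (n .b o (n .h o o)) (n .d (n .c (n .b o o) (n .g (n .f (n .c o o) (n .h (n .d o o) o)) (n .h (n .d o o) (n .i o o)))) (n .g o (n .h o (n .i o o))))) (n .g (n .h o (n .i (n .j (n .e o o) o) o)) (n .i o o))) (n .h o (n .i o o))) (n .e (n .f (n .e (n .d (n .c (n .b o (n .g (n .j (n .f (n .a (n .e (n .i (n .b (n .c (n .g o o) o) o) o) (n .g (n .i (n .b o o) o) o)) (n .e (n .b (n .d o o) o) (n .g (n .c (n .h o o) o) o))) (n .i (n .a o (n .d (n .e o o) o)) o)) o) (n .i (n .d (n .g (n .a (n .c (n .e o (n .i o o)) (n .e (n .i (n .g (n .b o (n .h o o)) (n .h o o)) o) o)) (n .c o o)) o) o) o))) (n .g (n .a o (n .j (n .b o o) o)) (n .h o (n .i o o)))) (n .i (n .h o o) o)) (n .g (n .a (n .i o o) (n .b (n .a o (n .j o o)) (n .i (n .h (n .d (n .c o o) (n .j (n .b o o) o)) (n .j o o)) (n .j o o)))) o)) (n .i (n .h (n .d (n .b o o) (n .f o o)) o) o)) (n .f (n .e (n .d (n .c (n .g (n .b (n .c (n .f (n .h (n .d o o) o)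 o) (n .f o (n .j o o))) (n .j o o)) (n .i o o)) (n .h (n .g o o) (n .i o o))) o) (n .g (n .i (n .h (n .a o (n .j o o)) (n .j (n .e (n .f (n .c o (n .g o (n .h o o))) o) o) o)) (n .j (n .e (n .f (n .c o o) o) o) o)) (n .i (n .h (n .e (n .a o (n .d o o)) o) o) o))) (n .i (n .h o o) o))))
def t17_12 : Tr := (n .b (n .a (n .d (n .c (n .b o (n .h (n .f o o) (n .i o o))) (n .h o o)) (n .e (n .i o o) (n .f (n .e (n .b o (n .i (n .f o (n .h o o)) o)) (n .g (n .i (n .d o (n .j (n .e o o) o)) (n .j (n .e (n .d o o) o) o)) (n .i o o))) (n .i (n .h o o) o)))) (n .d (n .c (n .f (n .e (n .a (n .i o o) o) (n .g (n .a (n .b o o) (n .h o (n .i o (n .j o o)))) (n .h o o))) o) o) (n .e (n .i (n .f (n .e o (n .g (n .a (n .h o o) o) (n .h (n .a o o) o))) o) o) (n .f (n .e (n .d (n .c (n .e o (n .f (n .b o o) (n .h (n .d o (n .g (n .j o o) o)) o))) (n .e (n .h (n .a o o) (n .i (n .g o o) o)) (n .g (n .a (n .e o o) (n .i o (n .j o o))) (n .h (n .a o o) (n .i o o)))))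 (n .i (n .h (n .d (n .g (n .j o o) o) o) o) o)) (n .g (n .d (n .i o o) (n .i (n .h o (n .j (n .e o o) o)) (n .j o o))) (n .i (n .d o (n .h o o)) o))) (n .i (n .h o o) o))))) (n .c (n .e (n .d (n .i o o) (n .f (n .e (n .i o o) (n .i (n .g (n .d (n .h o o) (n .j o o)) (n .h o o)) o)) (n .i o o))) (n .f (n .e (n .d (n .c (n .b o o) (n .g (n .a (n .h (n .g o (n .j o o)) o) (n .i (n .j o o) o)) (n .i o o))) (n .i (n .h o o) o)) (n .g (n .i (n .j o o) o) (n .i o o))) (n .i (n .h (n .d o o) o) o))) t17_11))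
def t17 : Tr := (n .a t17_10 t17_12)
def t13_0 : Tr := (n .a (n .b o (n .e (n .c (n .i (n .d (n .a o (n .f (n .i (n .a (n .b (n .f (n .h (n .b o (n .d o (n .c (n .e (n .d (n .f (n .b o o) o) o) o) o))) (n .e (n .f o o) o)) (n .i (n .h (n .b o o) o) o)) (n .e (n .f (n .h (n .b o o) o) o) o)) (n .h o o)) o) o)) o) (n .h (n .d (n .h (n .c (n .b o o) o) o) o) o)) (n .d (n .b (n .i o o) (n .f (n .i o o) (n .h (n .a o (n .e (n .c (n .d (n .a (n .b (n .c (n .h o (n .i o o)) o) o) o) o) o) (n .c (n .d (n .a (n .b (n .a (n .e (n .h (n .d (n .c (n .b (n .a (n .c o (n .e (n .d o o) o)) (n .h (n .i o o) o)) o) o) o) o) o) (n .f (n .h (n .a o (n .b o (n .d o (n .e (n .d (n .a (n .c (n .f o o) (n .i (n .b (n .a (n .e o o) o) o) o)) (n .f (n .c o o) (n .e (n .f (n .c (n .d o (n .i o o)) o) o) o))) o) o)))) o) (n .h o (n .i (n .h (n .f (n .e (n .f (n .h (n .a o o) o) o) o) o) o) o)))) (n .i (n .c (n .f o o) (n .f (n .h o o) (n .h o o))) o)) (n .c (n .i o o) o))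 o) o))) (n .c (n .i o o) o)))) o)) o)) (n .c (n .d (n .a (n .f (n .c (n .h (n .b o o) (n .i o o)) (n .h o o)) (n .i o o)) (n .b (n .i (n .f o o) o) (n .f (n .c o (n .h (n .b (n .d o o) o) o)) (n .i o o)))) o) (n .h o o)))
def t13_1 : Tr := (n .c (n .b o (n .e (n .d (n .f (n .a (n .h o (n .i o o)) (n .b (n .d o (n .e (n .h o o) o)) (n .h o (n .i o o)))) (n .h (n .b o o) (n .i (n .b o (n .h (n .a o (n .d (n .c (n .a (n .b (n .f (n .h (n .d o o) (n .i o o)) (n .h (n .a (n .d o o) o) (n .i o o))) (n .f (n .h o (n .i o o)) (n .h o o))) (n .b (n .a (n .c (n .d (n .f o o) (n .f o (n .h o o))) (n .h (n .e o o) (n .i o o))) (n .c (n .d (n .b (n .f o (n .i o o)) (n .f o (n .i (n .h o o) o))) (n .f (n .b o (n .h o o)) (n .i o o))) (n .e (n .d (n .b (n .a (n .b (n .a o o) o) o) (n .f (n .a (n .b (n .c (n .b (n .c (n .e (n .d o o) o) o) o) o) o) (n .e (n .d (n .b (n .a o (n .h (n .e o o) o)) (n .i o o)) o) o)) (n .i (n .h o o) o))) (n .f t13_0 (n .i o o)))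 (n .h (n .f (n .d o o) o) (n .i (n .f o o) o))))) (n .f (n .h (n .d o o) (n .i o o)) (n .h o o)))) (n .e (n .a (n .f (n .c (n .b (n .d o (n .h o o)) o) (n .e (n .d (n .f o o) o) (n .i o o))) (n .i o o)) (n .f (n .c (n .d o o) (n .e (n .b (n .d (n .f (n .e o o) o) (n .f o o)) (n .d (n .f o o) o)) o)) (n .h (n .b (n .e o o) o) (n .i o o)))) o)) o)) o)) o))) o) o)) (n .e (n .f o (n .i o o)) o))
def t13 : Tr := (n .f (n .e (n .d (n .h (n .c (n .b (n .a (n .d t13_1 o) (n .d (n .c (n .i (n .h (n .d o o) o) o) (n .e (n .f o (n .i (n .h (n .d (n .b o o) o) o) o)) o)) (n .i o o))) (n .d o o)) o) o) o) o) o)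
def t11_0 : Tr := (n .c (n .b (n .a (n .e (n .d (n .c (n .a (n .i (n .h (n .c o (n .d (n .e o o) o)) o) o) o) (n .f (n .g (n .e o o) o) o)) o) (n .f (n .e (n .f o o) (n .g (n .i o o) o)) (n .i o o))) (n .f o (n .i o o))) (n .e (n .d (n .f (n .b (n .c (n .e (n .d (n .a o o) o) (n .g (n .i (n .a o o) o) (n .i (n .a (n .h (n .e (n .a o o) o) o) o) o))) (n .e (n .d o (n .g o o)) (n .g o (n .i o o)))) (n .e (n .d (n .h o o) (n .g (n .f o o) o)) (n .g (n .i o o) (n .i (n .h o o) o)))) (n .i o o)) (n .f (n .b (n .e (n .d (n .g o (n .i o o)) (n .h o (n .i o o))) (n .g (n .a o (n .h o o)) (n .h o o))) (n .e (n .d (n .c (n .g o (n .h o o)) (n .g (n .f o (n .h o o)) o)) (n .g (n .f o o) o)) (n .g o (n .h o (n .i o o))))) (n .h o o))) (n .f (n .e (n .d (n .b (n .c (n .b o o) o) (n .c (n .h o o) (n .g (n .f o o) (n .i o o)))) (n .g (n .b (n .f o o) (n .f (n .h o o) (n .h o o))) o)) (n .g (n .h (n .b o o) o) (n .h (n .d o o) (n .i o o)))) (n .h (n .d o o) (n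 .i o o))))) (n .e (n .f (n .e (n .d (n .c o (n .g o o)) (n .g o o)) (n .h (n .d o (n .g o o)) (n .i o o))) (n .i o o)) (n .h (n .f (n .d (n .c (n .g (n .a o (n .b o o)) o) (n .g o o)) (n .e (n .g o o) (n .g o o))) o) (n .i (n .f (n .e o o) o) o))))
def t11_1 : Tr := (n .b (n .a (n .d (n .c (n .g (n .d (n .f o o) o) (n .d (n .h o o) o)) (n .g o (n .h (n .d (n .a o (n .c (n .g (n .f (n .e o o) o) o) (n .g o o))) o) o))) (n .h o o)) (n .g (n .c (n .d (n .f (n .c (n .b (n .h (n .e o o) o) o) o) o) (n .i (n .f (n .c o o) o) o)) (n .d (n .c (n .f (n .i o o) (n .h (n .i o o) o)) o) o)) (n .h o o))) (n .d o (n .h (n .d (n .c (n .b (n .a (n .i (n .f (n .e (n .h o o) o) (n .h (n .d (n .i (n .h o o) o) o) o)) (n .f (n .e o (n .h o o)) (n .g (n .h o o) o))) (n .h (n .d (n .a o (n .b (n .e o (n .i (n .h o o) o)) o)) o) o)) (n .f (n .e (n .d (n .g o (n .i o o)) (n .h o (n .i (n .b o o) o))) (n .i o o)) (n .g (n .h (n .d (n .i o o) o) (n .i (n .h o o) o)) (n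 .i (n .h (n .d (n .i o o) o) o) o)))) (n .g (n .b (n .c (n .a o (n .h (n .i (n .a (n .b (n .a (n .d (n .f (n .b (n .h (n .c (n .g (n .d (n .c (n .d o o) o) o) o) o) o) o) (n .i o o)) o) o) (n .d (n .c (n .f (n .h o o) o) (n .h o o)) o)) (n .c o (n .f (n .d (n .i o o) o) (n .h (n .d (n .a (n .e o (n .f (n .h (n .b (n .c o o) o) (n .e (n .d (n .c o o) o) o)) o)) (n .g (n .b (n .a (n .b o o) o) o) (n .h (n .d (n .i o o) o) o))) o) o)))) o) (n .i o o))) (n .f (n .a (n .i o o) (n .h o o)) (n .i o o))) (n .f o (n .h o o))) o)) o) o)))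
def t11_2 : Tr := (n .d (n .f (n .e t11_1 (n .g (n .b (n .h (n .a o (n .c (n .d o o) (n .i o o))) o) (n .h o o)) (n .h (n .b o (n .i (n .h o o) o)) (n .i (n .b (n .c (n .e (n .d (n .c (n .h (n .f (n .d o o) o) o) o) o) (n .g o (n .i o o))) (n .h (n .e (n .d (n .b o (n .e (n .g (n .c o o) o) o)) (n .g (n .b (n .f o o) o) o)) (n .g o o)) o)) o) o)))) (n .h o (n .i (n .b (n .a (n .h o o) (n .c o (n .h o o))) o) o))) (n .f (n .b (n .a (n .d o (n .g (n .i (n .e (n .h (n .d (n .c (n .f (n .e o o) o) (n .e (n .h (n .c (n .b o (n .i o o)) o) o) (n .h (n .i o o) o))) (n .f o o)) (n .d (n .c o o) o)) o) o) o)) (n .e (n .d (n .c (n .b (n .a o (n .e (n .d (n .h o o) o) (n .h (n .d (n .f (n .a (n .g (n .d (n .f (n .c o o) o) o) (n .i (n .h (n .e o o) o) o)) o) (n .g (n .i o o) o)) (n .g (n .e (n .d o o) o) o)) o))) (n .e (n .d o (n .h o o)) (n .g o o))) (n .g (n .a (n .f (n .c (n .h (n .e (n .g (n .i (n .e (n .b (n .g (n .d (n .a (n .b (n .i (n .f (n .b o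 o) o) (n .c (n .b o (n .h o o)) o)) (n .h o o)) (n .b o o)) o) (n .d (n .h o o) o)) (n .h o o)) o) o) o) (n .f o o)) o) (n .d o o)) o) (n .i o o)) (n .i (n .e (n .h (n .c (n .d (n .i (n .h o o) o) o) o) o) o) o))) (n .i (n .a o (n .g o (n .h o o))) o)) (n .i (n .g o (n .h (n .a (n .d o o) o) o)) o))) (n .g (n .e (n .d (n .f (n .h (n .c (n .e o o) o) o) (n .h o o)) (n .i o o)) o) (n .i (n .e (n .h o o) (n .h (n .d (n .c (n .d o o) o) o) o)) o))) (n .i (n .h o o) o)))
def t11_3 : Tr := (n .c (n .e t11_2 (n .f (n .e (n .b (n .a (n .i (n .d o (n .g (n .f (n .i o o) (n .h (n .d (n .c o o) o) o)) (n .h (n .d (n .c (n .h (n .f (n .a (n .d o o) (n .i o o)) o) o) o) o) o))) o) o) (n .d (n .c (n .b (n .f (n .a (n .h (n .d (n .g (n .e o (n .i (n .c (n .b o o) o) o)) o) (n .g (n .e (n .c (n .i o o) o) (n .i o o)) o)) o) (n .e o o)) o) (n .f (n .h o o) (n .h (n .d (n .b (n .a (n .c (n .i (n .f o o) o) (n .i o o)) (n .i (n .f (n .c (n .d o (n .g o o)) o) o)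 o)) (n .g o o)) (n .i (n .b (n .f o o) (n .g o o)) o)) o))) (n .f (n .h (n .i (n .b (n .a (n .c (n .b o (n .d (n .f o o) o)) (n .g o o)) (n .c o o)) (n .h (n .g (n .f o o) o) o)) o) o) (n .g (n .b (n .a (n .c o (n .f (n .e (n .c (n .d (n .f o o) o) o) (n .h o o)) (n .h o o))) (n .c (n .h (n .i o o) o) (n .h o o))) (n .h (n .f (n .e (n .d (n .f (n .c (n .e o (n .i (n .b (n .h (n .e (n .g o o) o) o) o) o)) o) (n .g o o)) o) o) o) o)) (n .i o o)))) (n .g (n .f o o) (n .i (n .h o o) o)))) (n .g o (n .i (n .h o o) o))) (n .i (n .b (n .a (n .e (n .h o o) (n .f (n .g o o) o)) o) (n .h o o)) o))) (n .e (n .f (n .e (n .d (n .c (n .g o (n .h (n .b o (n .d (n .g (n .f o (n .h o (n .e (n .f o o) o))) o) o)) o)) (n .g (n .f (n .h o o) (n .i o o)) o)) o) (n .g o (n .i o o))) o) (n .f (n .g o (n .i (n .h (n .d o (n .e o o)) o) o)) (n .i (n .h (n .d (n .e (n .d (n .c o o) o) o) o) o) o))))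
def t11_4 : Tr := (n .e (n .d (n .c (n .b (n .a (n .e o (n .g (n .f o o) (n .h (n .f (n .b (n .h (n .d (n .h (n .c (n .i o o) o) o) (n .g (n .f (n .d (n .i o o) o) o) o)) o) (n .d (n .i o o) o)) o) o))) o) (n .g (n .f o o) (n .h (n .d (n .e (n .b (n .f (n .h o o) o) o) (n .h (n .f (n .b (n .e o o) o) o) o)) o) o))) (n .h o o)) (n .h (n .d (n .c (n .e (n .g (n .f (n .h o (n .a (n .e (n .b (n .i o o) o) o) o)) (n .h (n .d (n .e (n .f (n .i (n .d (n .h (n .d (n .c o o) o) o) o) o) o) (n .i o o)) o) o)) (n .h o o)) (n .f o (n .g (n .i o (n .b (n .a (n .e (n .i o o) o) o) (n .h (n .i o o) o))) (n .h (n .b (n .i o o) (n .d (n .i o o) o)) (n .i (n .b o (n .h (n .d o o) o)) o))))) (n .g (n .e (n .h (n .a (n .i o o) o) o) (n .f (n .a (n .i (n .c o (n .h (n .i o o) o)) o) (n .i o o)) (n .h o o))) o)) (n .g (n .f (n .g (n .c o o) (n .i o o)) o) o)) o)) (n .h (n .c (n .g o o) (n .i o o)) (n .i (n .c (n .e o o) (n .g (n .e (n .h (n .b (n .d o o) (n .c o (n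 .f (n .d (n .g (n .c (n .a o o) (n .e (n .h o o) o)) o) o) o))) o) (n .h (n .i o o) o)) (n .h (n .e (n .b (n .d (n .c (n .h (n .f (n .e o (n .i (n .h o o) o)) (n .i o o)) (n .i (n .f o (n .g (n .f o o) o)) o)) o) o) (n .d (n .h o o) o)) o) o))) o)))
def t11_5 : Tr := (n .e (n .d (n .g (n .c (n .h (n .b (n .a (n .e (n .d (n .g (n .c (n .i (n .d (n .a (n .c (n .g (n .e o o) (n .f (n .h o o) o)) (n .e (n .g (n .i (n .a (n .e (n .f (n .d o o) o) (n .g o o)) (n .f (n .e (n .d (n .i (n .g (n .h o o) o) o) o) o) o)) o) (n .i (n .h o o) o)) o)) o) (n .g o o)) o) o) o) (n .f o o)) (n .c (n .i o o) o)) (n .e (n .c (n .f o o) o) (n .i o o))) (n .e o o)) o) (n .f (n .h (n .i o o) o) (n .h (n .b (n .c (n .e (n .d (n .f o o) o) (n .f o o)) (n .d (n .f (n .i o o) o) (n .f (n .e (n .d o (n .g o o)) o) o))) (n .e (n .d (n .e o (n .i (n .h (n .i o o) o) o)) o) o)) (n .i (n .e (n .f (n .d o (n .e (n .b o o) (n .h (n .d (n .g (n .i o o) o) o) o))) (n .h (n .b (n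 .a (n .g o o) o) (n .c (n .d (n .c (n .i o o) (n .e (n .f (n .b o (n .i o o)) o) (n .f (n .i o o) o))) o) (n .d o o))) o)) o) o)))) (n .h (n .c (n .b (n .c (n .i o o) o) (n .e o (n .i o o))) (n .i (n .d o o) o)) (n .i (n .h (n .b (n .c (n .i (n .d (n .f o o) (n .g (n .e o o) o)) o) o) o) o) o))) (n .g o o)) (n .g (n .i o o) (n .h (n .d (n .c (n .g o o) (n .g (n .e o o) o)) o) (n .i o o))))
def t11_6 : Tr := (n .e (n .d (n .f (n .b (n .a (n .c (n .e (n .d (n .h (n .a o o) o) o) (n .g o o)) (n .e (n .g (n .f (n .a (n .c o o) (n .c (n .h o o) (n .d (n .i (n .e o (n .h (n .g (n .d o (n .f o (n .i o o))) (n .c (n .d o o) o)) o)) o) (n .g o (n .i o o))))) o) (n .h (n .d (n .c (n .d (n .h o o) (n .f o (n .h (n .g (n .e (n .d (n .f (n .i o o) o) (n .f (n .c o o) o)) (n .f (n .i (n .e (n .d (n .e (n .h (n .b (n .a (n .f (n .h o (n .d (n .g (n .f o o) o) o)) o) o) (n .c (n .g o o) o)) o) (n .h (n .d o (n .c (n .f o o) o)) o)) o) o) o) o)) (n .i o o)) (n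 .i (n .e (n .h o (n .b (n .a o o) o)) o) o)))) (n .i (n .h o o) o)) o) o)) (n .h (n .d (n .g o o) (n .g o o)) o))) t11_4) (n .e (n .h (n .g (n .f o o) o) o) (n .g o (n .h (n .d (n .c (n .e (n .g (n .f o o) o) (n .i o o)) (n .g (n .b o (n .e (n .f (n .b (n .a (n .h (n .d (n .f o o) o) o) o) (n .d o (n .i o o))) o) o)) (n .i o o))) (n .i o o)) o)))) (n .h (n .d (n .c o o) o) (n .i o o))) (n .f (n .b (n .e (n .h o o) (n .h (n .d (n .e (n .a o (n .d o o)) o) o) (n .i o o))) t11_5) (n .h (n .d (n .c o o) o) (n .i o o)))) (n .f (n .e (n .d (n .c (n .h o o) (n .g (n .b (n .f (n .i o o) (n .h (n .c (n .f (n .i o o) o) (n .d (n .f o (n .i o o)) (n .i o o))) o)) (n .h (n .f o (n .i (n .d (n .f o o) o) o)) o)) (n .h (n .b (n .c (n .d (n .f (n .i (n .c o o) o) (n .i o o)) (n .e o (n .f (n .i o o) (n .h o (n .i (n .b o o) o))))) (n .d (n .c (n .f (n .e (n .d (n .a o (n .e o o)) o) o) o) (n .f o o)) (n .e (n .i o o) (n .i o o)))) (n .d o o)) (n .i o o)))) (n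 .g o o)) (n .g o o)) (n .h o (n .i o o))))
def t11_7 : Tr := (n .c (n .d t11_3 (n .f (n .e (n .d (n .c (n .h (n .e (n .d o o) o) o) (n .e o (n .h (n .d o o) o))) (n .h (n .d o o) o)) (n .g (n .h o o) (n .h o (n .i o o)))) (n .i (n .h o o) o))) (n .d (n .c (n .b (n .a (n .d (n .e (n .d (n .c (n .h (n .d o o) o) (n .e (n .h o o) (n .h o o))) o) (n .f (n .g o o) o)) (n .f (n .e (n .d (n .g (n .h o (n .i o o)) (n .h (n .e (n .c o o) (n .f (n .c (n .e (n .g (n .f o o) o) o) (n .d (n .e o (n .g o o)) (n .g (n .e o (n .f o (n .h (n .c (n .f o o) o) o))) o))) (n .i (n .d o o) o))) o)) (n .g (n .f (n .g o o) (n .i o o)) (n .h (n .d (n .f (n .c (n .e o (n .g o o)) o) o) o) o))) (n .g (n .i o o) (n .i o o))) (n .i (n .e (n .d (n .f (n .g o o) o) (n .f (n .g (n .e o o) o) o)) o) o))) (n .h o o)) t11_6) (n .e (n .f (n .g (n .e (n .f o (n .h o o)) (n .h (n .d (n .c o o) o) (n .i o o))) (n .h (n .d (n .c o o) (n .e o o)) (n .i o o))) (n .h o (n .i o o))) (n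 .f (n .e (n .d (n .c (n .f (n .g o o) o) (n .f o o)) o) (n .g o (n .i o o))) (n .h (n .d (n .e o o) o) (n .i o o))))) (n .f (n .e (n .d (n .c o o) (n .h (n .i o o) o)) (n .g (n .h (n .d o o) o) (n .h (n .d (n .i o o) o) (n .i (n .h o o) o)))) (n .h (n .d o (n .i (n .h o o) o)) (n .i (n .h o o) o)))))
def t11_8 : Tr := (n .b (n .a (n .e (n .d (n .c (n .d o (n .f o (n .i o o))) (n .f (n .i (n .g (n .c o o) o) o) (n .i (n .h (n .a (n .f (n .e (n .d o o) o) o) o) o) o))) (n .f (n .e (n .d (n .e (n .c (n .d (n .b (n .h (n .c o o) (n .i (n .a (n .c o o) o) o)) (n .e o (n .i (n .h o o) o))) (n .g o (n .i o o))) (n .g o o)) (n .g o (n .i o o))) (n .g (n .f (n .b o o) o) (n .i o o))) (n .g o (n .i o o))) (n .i o o))) (n .f (n .g (n .e (n .f (n .i o o) (n .i o o)) (n .i o o)) (n .h (n .e o o) (n .i o o))) (n .i o o))) (n .e (n .f (n .e (n .g o (n .h (n .d (n .g (n .c o o) o) o) o)) (n .g o (n .h o (n .i o o)))) (n .i o o)) (n .h o o))) (n .e (n .d (n .f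 (n .e (n .g (n .d (n .f o (n .h o o)) o) o) (n .g o (n .i o o))) (n .i o o)) (n .f (n .e (n .d (n .c (n .g o (n .h o o)) (n .g (n .f (n .b o (n .h (n .i o o) o)) o) o)) (n .g (n .f (n .h (n .d o o) o) o) (n .h o o))) (n .g (n .h o (n .i o o)) (n .h o (n .i o o)))) (n .h o o))) (n .f (n .e (n .b (n .h (n .d (n .c (n .d (n .f o o) o) o) o) o) (n .d (n .c (n .h (n .b o (n .i o o)) o) (n .g (n .f (n .b (n .c (n .a o o) o) (n .h o o)) (n .h (n .i o o) o)) (n .h (n .b o (n .d o o)) (n .i (n .b (n .a o o) (n .h (n .i (n .f o o) o) o)) o)))) (n .h (n .d (n .a o (n .e o (n .g (n .f o o) o))) o) o))) (n .g (n .h (n .d o o) o) (n .h (n .d (n .c o (n .e (n .b o o) o)) o) (n .i (n .b (n .c o o) o) o)))) (n .h (n .d (n .c o o) o) (n .i o o)))))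
def t11 : Tr := (n .a (n .d t11_0 (n .f (n .e (n .h o o) (n .g (n .d (n .e (n .f o o) o) (n .h (n .d o (n .i o o)) o)) (n .h (n .d (n .c o o) (n .i (n .h o o) o)) (n .i (n .h o o) o)))) (n .h (n .d (n .c (n .a o (n .b (n .e o (n .i o o)) o)) o) (n .i o o)) (n .i (n .h o o) o)))) (n .b t11_7 (n .d (n .c t11_8 (n .e (n .f (n .e (n .g (n .d o o) (n .h o o)) o) (n .h (n .d (n .a o (n .e o o)) o) (n .i o o))) (n .f (n .e (n .a o (n .d (n .c (n .a o o) o) (n .g (n .f (n .c (n .b (n .c o (n .h o o)) (n .h o o)) o) o) (n .h o (n .i o o))))) (n .g (n .h o o) (n .h (n .d o o) (n .i o o)))) (n .h (n .d (n .e (n .c o (n .h o o)) o) o) o)))) (n .f (n .e (n .d (n .c (n .a o o) o) (n .h o o)) (n .h (n .d (n .c o (n .g (n .i o o) (n .i o o))) (n .g o (n .i (n .h o o) o))) (n .i (n .h o o) o))) (n .h (n .i (n .d (n .e (n .b o o) o) (n .h o o)) o) (n .i (n .h o o) o))))))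

end Cfsg.Agent.LThreeFi23.Data

end

-- merged: Cfsg.Agent.LThreeFi23.ChkA
section

/-! Kernel checks for the elements of order 13 and 11 of `Fi23` (helper48) -/

set_option autoImplicit false
set_option maxRecDepth 100000

namespace Cfsg.Agent.LThreeFi23

open Cfsg.Agent.Lib.PermNet Cfsg.Agent.Lib.PermNetOrbit

/-- the mask of the points commuting with `elw l 0` -/
noncomputable def Mw (l : List Lt) : ℕ :=
  List.rec (motive := fun _ => ℕ) (pattern [([.z], false)]) (fun x _ ih => seq ih fun m => (nt x).app m) l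

/-- the coverage of `S` by a walk -/
noncomputable def cover (S : ℕ) (y v : List Lt) (l : List Bool) (t : Tr) (pl : List Lt) (b r : ℕ) : Bool :=
  seqB S fun S => Nat.beq (Nat.land S (sat [ntw y] r (Nat.lor (Nat.pow 2 b) (walk (pls (ntw v)) l t b (Mw pl))))) S

/-- the test is passed at `b` -/
noncomputable def good (v : List Lt) (l : List Bool) (pl : List Lt) (b : ℕ) : Bool :=
  Bool.rec true false (fails (pls (ntw v)) (Mw pl) l b)

private noncomputable def pimgC (pl : List ℕ) (p : ℕ) : ℕ :=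
  Bool.rec (pimg pl p) (Nat.xor p (Cfsg.Agent.Lib.PermNetFast.look
    (Cfsg.Agent.Lib.PermNetFast.tab (fun b => pl.getD b 0) 15) p)) (Nat.beq pl.length 15)

private theorem pimg_bitsC (p : ℕ) : ∀ pl : List ℕ, pimg pl p < 2 ^ pl.length ∧
    ∀ b, (pl.getD b 0).testBit p = (pimg pl p).testBit b := by
  intro pl
  induction pl with
  | nil => exact ⟨Nat.one_pos, fun b => by rw [pimg_nil, List.getD_nil, Nat.zero_testBit, Nat.zero_testBit]⟩
  | cons m pl ih =>
    rw [pimg_cons, List.length_cons, pow_succ]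
    have h1 := ih.1
    refine ⟨by split_ifs <;> omega, fun b => ?_⟩
    cases b with
    | zero =>
      rw [List.getD_cons_zero, Nat.testBit_zero]
      cases m.testBit p
      · exact (decide_eq_false (by simp)).symm
      · exact (decide_eq_true (by simp [Nat.add_mod])).symm
    | succ b =>
      rw [List.getD_cons_succ, Nat.testBit_succ, ih.2 b]
      congr 1
      split_ifs <;> omega

private theorem pimg_fastC : pimg = pimgC := by
  funext pl p
  unfold pimgC
  cases h : Nat.beq pl.length 15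
  · rfl
  · have h1 := pimg_bitsC p pl
    rw [Nat.eq_of_beq_eq_true h] at h1
    show _ = p ^^^ _
    rw [Cfsg.Agent.Lib.PermNetFast.look_eq (by norm_num) h1.1 fun b _ => h1.2 b, Nat.xor_xor_cancel_left]

private noncomputable def failsC (f : List ℕ → ℕ → ℕ) (pl : List ℕ) (M : ℕ) (l : List Bool) : ℕ → Bool :=
  List.rec (motive := fun _ => ℕ → Bool) (fun _ => false)
    (fun e _ ih q => Lib.PermNetPt.force (f pl q) fun q' =>
      Bool.rec (Bool.rec (ih q') true e) (Bool.rec true (ih q') e) (tb M q')) l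

private noncomputable def walkC (f : List ℕ → ℕ → ℕ) (pl : List ℕ) (l : List Bool) (t : Tr) : ℕ → ℕ → ℕ :=
  Tr.rec (motive := fun _ => ℕ → ℕ → ℕ) (fun _ _ => 0)
    (fun x _ _ ihc ihs p M =>
      Nat.lor (Lib.PermNetPt.force (f (pls [nt x]) p) fun p' => seq ((nt x).app M) fun M' =>
        Nat.lor (Bool.rec 0 (Nat.pow 2 p') (failsC f pl M' l p')) (ihc p' M')) (ihs p M)) t

private noncomputable def coverC (f : List ℕ → ℕ → ℕ) (S : ℕ) (y v : List Lt) (l : List Bool) (t : Tr) (pl : List Lt)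
    (b r : ℕ) : Bool :=
  seqB S fun S => Nat.beq (Nat.land S (sat [ntw y] r (Nat.lor (Nat.pow 2 b) (walkC f (pls (ntw v)) l t b (Mw pl))))) S

private theorem cover_fastC : cover = coverC pimgC := by
  rw [← pimg_fastC]
  rfl

/-! ### 13 -/

def y13 : List Lt := [.e, .c, .d, .h, .i, .b, .f, .a]
def v13 : List Lt := [.z, .e, .c, .d, .h, .i, .b, .f, .a]
def l13 : List Bool := [true, false, true, true, false, false, false, false, false, false, true, false, false]

/-- the points commuting with `j` and not with `z0`, without the point of `j` -/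
noncomputable def S13 : ℕ := delPt (pattern [([.j], false), ([.z], true)]) 8006

theorem cover13 : cover S13 y13 v13 l13 Data.t13 [.g, .j] 2 13 = true := by
  rewrite [cover_fastC]
  decide +kernel
theorem good13 : good v13 l13 [.g, .j] 2 = true := by decide +kernel
theorem sat13 : orbB [[.g, .j, .z, .j, .g], v13, [.j], [.z]] 2 18 = true := by decide +kernel

/-- the point `p` is in the mask -/
noncomputable def inM (M p : ℕ) : Bool := tb M p

theorem inM_spec {M p : ℕ} (h : inM M p = true) : M.testBit p = true := by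
  rw [← tb_eq]; exact h

theorem in13 : inM (pattern [([.j], false), ([.z], true)]) 2 = true := by decide +kernel

end Cfsg.Agent.LThreeFi23

end
end

-- part: LThreeFi23/ChkC
section
/-! Kernel checks for the elements of order 17 and 23 of `Fi23` (helper48) -/

set_option autoImplicit false
set_option Elab.async false
set_option maxRecDepth 100000

namespace Cfsg.Agent.LThreeFi23

open Cfsg.Agent.Lib.PermNet Cfsg.Agent.Lib.PermNetOrbit

/-! ### 17 -/

/-- an element of order 17 -/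
def y17 : List Lt := [.f, .j, .g, .d, .a, .c, .b, .h, .e]
def l17 : List Bool := [true, false, false, false, false, true, true, false]
def p17 : List Lt := [.e, .c, .d, .h, .i, .h, .d, .e, .c, .d, .h, .b, .c, .d, .e, .f, .g, .j]

theorem cover17 : cover full y17 y17 l17 Data.t17 p17 459 17 = true := by
  rewrite [cover_fastC]
  decide +kernel
theorem good17 : good y17 l17 p17 459 = true := by decide +kernel
theorem sat17 : orbB [p17 ++ .z :: p17.reverse, y17] 459 24 = true := by decide +kernel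

/-! ### 23 -/

/-- an element of order 23 -/
def y23 : List Lt := [.c, .e, .h, .i, .d, .c, .f, .e, .b, .f, .c, .h, .a, .g, .d, .b, .j]
def l23 : List Bool := [false, true, false, false, false, false, false, true, false, true, true]
def p23 : List Lt := [.f, .g, .j]

theorem cover23 : cover full y23 y23 l23 Data.t23 p23 3 23 = true := by
  rewrite [cover_fastC]
  decide +kernel
theorem good23 : good y23 l23 p23 3 = true := by decide +kernel
theorem sat23 : orbB [p23 ++ .z :: p23.reverse, y23] 3 22 = true := by decide +kernel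

end Cfsg.Agent.LThreeFi23
end

private theorem dce_13d109fc1056 : _root_.True := by
  try have : _root_.True := by simp only [_root_.Cfsg.Agent.LThreeFi23.fails.eq_1]
  try have : _root_.True := by simp only [_root_.Cfsg.Agent.LThreeFi23.ntws.eq_1]
  try have : _root_.True := by simp only [_root_.Cfsg.Agent.LThreeFi23.Pat.eq_1]
  exact _root_.True.intro
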